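import Mathlib
import Cfsg.Agent.Lib.Helper6.ChevCommOrbit
import Cfsg.Agent.Lib.Helper6.ChevComm.E7Tab

/-!
# Commutator formula certificates for E7, part 0 (helper6)

Generated tables and kernel checks.
-/

set_option autoImplicit false

namespace Cfsg.Agent.Lib.Helper6.ChevComm

open Cfsg.Lie Cfsg.Agent.Lib.Helper6.ChevCommOrbit Cfsg.Agent.Lib.Helper6.ChevN

set_option maxHeartbeats 0 in
set_option maxRecDepth 100000 in
theorem entE7p0_0 : entryOKL chevE7 etasE7 parE7 depE7 (List.range' 0 3) := by
  decide +kernel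

set_option maxHeartbeats 0 in
set_option maxRecDepth 100000 in
theorem entE7p0_1 : entryOKL chevE7 etasE7 parE7 depE7 (List.range' 3 3) := by
  decide +kernel

set_option maxHeartbeats 0 in
set_option maxRecDepth 100000 in
theorem entE7p0_2 : entryOKL chevE7 etasE7 parE7 depE7 (List.range' 6 3) := by
  decide +kernel

set_option maxHeartbeats 0 in
set_option maxRecDepth 100000 in
theorem entE7p0_3 : entryOKL chevE7 etasE7 parE7 depE7 (List.range' 9 3) := by
  decide +kernel

set_option maxHeartbeats 0 in
set_option maxRecDepth 100000 in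
theorem entE7p0_4 : entryOKL chevE7 etasE7 parE7 depE7 (List.range' 12 3) := by
  decide +kernel

set_option maxHeartbeats 0 in
set_option maxRecDepth 100000 in
theorem entE7p0_5 : entryOKL chevE7 etasE7 parE7 depE7 (List.range' 15 3) := by
  decide +kernel

set_option maxHeartbeats 0 in
set_option maxRecDepth 100000 in
theorem entE7p0_6 : entryOKL chevE7 etasE7 parE7 depE7 (List.range' 18 3) := by
  decide +kernel

set_option maxHeartbeats 0 in
set_option maxRecDepth 100000 in
theorem entE7p0_7 : entryOKL chevE7 etasE7 parE7 depE7 (List.range' 21 3) := by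
  decide +kernel

set_option maxHeartbeats 0 in
set_option maxRecDepth 100000 in
theorem entE7p0_8 : entryOKL chevE7 etasE7 parE7 depE7 (List.range' 24 3) := by
  decide +kernel

set_option maxHeartbeats 0 in
set_option maxRecDepth 100000 in
theorem entE7p0_9 : entryOKL chevE7 etasE7 parE7 depE7 (List.range' 27 3) := by
  decide +kernel

set_option maxHeartbeats 0 in
set_option maxRecDepth 100000 in
theorem entE7p0_10 : entryOKL chevE7 etasE7 parE7 depE7 (List.range' 30 2) := by
  decide +kernel

theorem entE7p0 (r : ℕ) (h1 : 0 ≤ r) (h2 : r < 32) (s : ℕ) (hs : s < 126) :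
    entryOK chevE7 etasE7 parE7 depE7 r s := by
  by_cases h3 : r < 3
  · exact entE7p0_0 r (List.mem_range'_1.mpr ⟨by omega, by omega⟩) s (List.mem_range.mpr hs)
  by_cases h6 : r < 6
  · exact entE7p0_1 r (List.mem_range'_1.mpr ⟨by omega, by omega⟩) s (List.mem_range.mpr hs)
  by_cases h9 : r < 9
  · exact entE7p0_2 r (List.mem_range'_1.mpr ⟨by omega, by omega⟩) s (List.mem_range.mpr hs)
  by_cases h12 : r < 12
  · exact entE7p0_3 r (List.mem_range'_1.mpr ⟨by omega, by omega⟩) s (List.mem_range.mpr hs)
  by_cases h15 : r < 15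
  · exact entE7p0_4 r (List.mem_range'_1.mpr ⟨by omega, by omega⟩) s (List.mem_range.mpr hs)
  by_cases h18 : r < 18
  · exact entE7p0_5 r (List.mem_range'_1.mpr ⟨by omega, by omega⟩) s (List.mem_range.mpr hs)
  by_cases h21 : r < 21
  · exact entE7p0_6 r (List.mem_range'_1.mpr ⟨by omega, by omega⟩) s (List.mem_range.mpr hs)
  by_cases h24 : r < 24
  · exact entE7p0_7 r (List.mem_range'_1.mpr ⟨by omega, by omega⟩) s (List.mem_range.mpr hs)
  by_cases h27 : r < 27
  · exact entE7p0_8 r (List.mem_range'_1.mpr ⟨by omega, by omega⟩) s (List.mem_range.mpr hs)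
  by_cases h30 : r < 30
  · exact entE7p0_9 r (List.mem_range'_1.mpr ⟨by omega, by omega⟩) s (List.mem_range.mpr hs)
  exact entE7p0_10 r (List.mem_range'_1.mpr ⟨by omega, by omega⟩) s (List.mem_range.mpr hs)


end Cfsg.Agent.Lib.Helper6.ChevComm
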