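import Mathlib
import Cfsg.Agent.Lib.Helper6.ChevCommOrbit
import Cfsg.Agent.Lib.Helper6.ChevComm.E7Tab

/-!
# Commutator formula certificates for E7, part 1 (helper6)

Generated tables and kernel checks.
-/

set_option autoImplicit false

namespace Cfsg.Agent.Lib.Helper6.ChevComm

open Cfsg.Lie Cfsg.Agent.Lib.Helper6.ChevCommOrbit Cfsg.Agent.Lib.Helper6.ChevN

set_option maxHeartbeats 0 in
set_option maxRecDepth 100000 in
theorem entE7p1_0 : entryOKL chevE7 etasE7 parE7 depE7 (List.range' 32 3) := by
  decide +kernel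

set_option maxHeartbeats 0 in
set_option maxRecDepth 100000 in
theorem entE7p1_1 : entryOKL chevE7 etasE7 parE7 depE7 (List.range' 35 3) := by
  decide +kernel

set_option maxHeartbeats 0 in
set_option maxRecDepth 100000 in
theorem entE7p1_2 : entryOKL chevE7 etasE7 parE7 depE7 (List.range' 38 3) := by
  decide +kernel

set_option maxHeartbeats 0 in
set_option maxRecDepth 100000 in
theorem entE7p1_3 : entryOKL chevE7 etasE7 parE7 depE7 (List.range' 41 3) := by
  decide +kernel

set_option maxHeartbeats 0 in
set_option maxRecDepth 100000 in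
theorem entE7p1_4 : entryOKL chevE7 etasE7 parE7 depE7 (List.range' 44 3) := by
  decide +kernel

set_option maxHeartbeats 0 in
set_option maxRecDepth 100000 in
theorem entE7p1_5 : entryOKL chevE7 etasE7 parE7 depE7 (List.range' 47 3) := by
  decide +kernel

set_option maxHeartbeats 0 in
set_option maxRecDepth 100000 in
theorem entE7p1_6 : entryOKL chevE7 etasE7 parE7 depE7 (List.range' 50 3) := by
  decide +kernel

set_option maxHeartbeats 0 in
set_option maxRecDepth 100000 in
theorem entE7p1_7 : entryOKL chevE7 etasE7 parE7 depE7 (List.range' 53 3) := by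
  decide +kernel

set_option maxHeartbeats 0 in
set_option maxRecDepth 100000 in
theorem entE7p1_8 : entryOKL chevE7 etasE7 parE7 depE7 (List.range' 56 3) := by
  decide +kernel

set_option maxHeartbeats 0 in
set_option maxRecDepth 100000 in
theorem entE7p1_9 : entryOKL chevE7 etasE7 parE7 depE7 (List.range' 59 3) := by
  decide +kernel

set_option maxHeartbeats 0 in
set_option maxRecDepth 100000 in
theorem entE7p1_10 : entryOKL chevE7 etasE7 parE7 depE7 (List.range' 62 2) := by
  decide +kernel

theorem entE7p1 (r : ℕ) (h1 : 32 ≤ r) (h2 : r < 64) (s : ℕ) (hs : s < 126) :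
    entryOK chevE7 etasE7 parE7 depE7 r s := by
  by_cases h35 : r < 35
  · exact entE7p1_0 r (List.mem_range'_1.mpr ⟨by omega, by omega⟩) s (List.mem_range.mpr hs)
  by_cases h38 : r < 38
  · exact entE7p1_1 r (List.mem_range'_1.mpr ⟨by omega, by omega⟩) s (List.mem_range.mpr hs)
  by_cases h41 : r < 41
  · exact entE7p1_2 r (List.mem_range'_1.mpr ⟨by omega, by omega⟩) s (List.mem_range.mpr hs)
  by_cases h44 : r < 44
  · exact entE7p1_3 r (List.mem_range'_1.mpr ⟨by omega, by omega⟩) s (List.mem_range.mpr hs)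
  by_cases h47 : r < 47
  · exact entE7p1_4 r (List.mem_range'_1.mpr ⟨by omega, by omega⟩) s (List.mem_range.mpr hs)
  by_cases h50 : r < 50
  · exact entE7p1_5 r (List.mem_range'_1.mpr ⟨by omega, by omega⟩) s (List.mem_range.mpr hs)
  by_cases h53 : r < 53
  · exact entE7p1_6 r (List.mem_range'_1.mpr ⟨by omega, by omega⟩) s (List.mem_range.mpr hs)
  by_cases h56 : r < 56
  · exact entE7p1_7 r (List.mem_range'_1.mpr ⟨by omega, by omega⟩) s (List.mem_range.mpr hs)
  by_cases h59 : r < 59
  · exact entE7p1_8 r (List.mem_range'_1.mpr ⟨by omega, by omega⟩) s (List.mem_range.mpr hs)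
  by_cases h62 : r < 62
  · exact entE7p1_9 r (List.mem_range'_1.mpr ⟨by omega, by omega⟩) s (List.mem_range.mpr hs)
  exact entE7p1_10 r (List.mem_range'_1.mpr ⟨by omega, by omega⟩) s (List.mem_range.mpr hs)


end Cfsg.Agent.Lib.Helper6.ChevComm
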