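import Mathlib
import Cfsg.Agent.Lib.Helper6.ChevCommOrbit
import Cfsg.Agent.Lib.Helper6.ChevComm.E7Tab

/-!
# Commutator formula certificates for E7, part 2 (helper6)

Generated tables and kernel checks.
-/

set_option autoImplicit false

namespace Cfsg.Agent.Lib.Helper6.ChevComm

open Cfsg.Lie Cfsg.Agent.Lib.Helper6.ChevCommOrbit Cfsg.Agent.Lib.Helper6.ChevN

set_option maxHeartbeats 0 in
set_option maxRecDepth 100000 in
theorem entE7p2_0 : entryOKL chevE7 etasE7 parE7 depE7 (List.range' 64 3) := by
  decide +kernel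

set_option maxHeartbeats 0 in
set_option maxRecDepth 100000 in
theorem entE7p2_1 : entryOKL chevE7 etasE7 parE7 depE7 (List.range' 67 3) := by
  decide +kernel

set_option maxHeartbeats 0 in
set_option maxRecDepth 100000 in
theorem entE7p2_2 : entryOKL chevE7 etasE7 parE7 depE7 (List.range' 70 3) := by
  decide +kernel

set_option maxHeartbeats 0 in
set_option maxRecDepth 100000 in
theorem entE7p2_3 : entryOKL chevE7 etasE7 parE7 depE7 (List.range' 73 3) := by
  decide +kernel

set_option maxHeartbeats 0 in
set_option maxRecDepth 100000 in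
theorem entE7p2_4 : entryOKL chevE7 etasE7 parE7 depE7 (List.range' 76 3) := by
  decide +kernel

set_option maxHeartbeats 0 in
set_option maxRecDepth 100000 in
theorem entE7p2_5 : entryOKL chevE7 etasE7 parE7 depE7 (List.range' 79 3) := by
  decide +kernel

set_option maxHeartbeats 0 in
set_option maxRecDepth 100000 in
theorem entE7p2_6 : entryOKL chevE7 etasE7 parE7 depE7 (List.range' 82 3) := by
  decide +kernel

set_option maxHeartbeats 0 in
set_option maxRecDepth 100000 in
theorem entE7p2_7 : entryOKL chevE7 etasE7 parE7 depE7 (List.range' 85 3) := by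
  decide +kernel

set_option maxHeartbeats 0 in
set_option maxRecDepth 100000 in
theorem entE7p2_8 : entryOKL chevE7 etasE7 parE7 depE7 (List.range' 88 3) := by
  decide +kernel

set_option maxHeartbeats 0 in
set_option maxRecDepth 100000 in
theorem entE7p2_9 : entryOKL chevE7 etasE7 parE7 depE7 (List.range' 91 3) := by
  decide +kernel

set_option maxHeartbeats 0 in
set_option maxRecDepth 100000 in
theorem entE7p2_10 : entryOKL chevE7 etasE7 parE7 depE7 (List.range' 94 2) := by
  decide +kernel

theorem entE7p2 (r : ℕ) (h1 : 64 ≤ r) (h2 : r < 96) (s : ℕ) (hs : s < 126) :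
    entryOK chevE7 etasE7 parE7 depE7 r s := by
  by_cases h67 : r < 67
  · exact entE7p2_0 r (List.mem_range'_1.mpr ⟨by omega, by omega⟩) s (List.mem_range.mpr hs)
  by_cases h70 : r < 70
  · exact entE7p2_1 r (List.mem_range'_1.mpr ⟨by omega, by omega⟩) s (List.mem_range.mpr hs)
  by_cases h73 : r < 73
  · exact entE7p2_2 r (List.mem_range'_1.mpr ⟨by omega, by omega⟩) s (List.mem_range.mpr hs)
  by_cases h76 : r < 76
  · exact entE7p2_3 r (List.mem_range'_1.mpr ⟨by omega, by omega⟩) s (List.mem_range.mpr hs)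
  by_cases h79 : r < 79
  · exact entE7p2_4 r (List.mem_range'_1.mpr ⟨by omega, by omega⟩) s (List.mem_range.mpr hs)
  by_cases h82 : r < 82
  · exact entE7p2_5 r (List.mem_range'_1.mpr ⟨by omega, by omega⟩) s (List.mem_range.mpr hs)
  by_cases h85 : r < 85
  · exact entE7p2_6 r (List.mem_range'_1.mpr ⟨by omega, by omega⟩) s (List.mem_range.mpr hs)
  by_cases h88 : r < 88
  · exact entE7p2_7 r (List.mem_range'_1.mpr ⟨by omega, by omega⟩) s (List.mem_range.mpr hs)
  by_cases h91 : r < 91
  · exact entE7p2_8 r (List.mem_range'_1.mpr ⟨by omega, by omega⟩) s (List.mem_range.mpr hs)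
  by_cases h94 : r < 94
  · exact entE7p2_9 r (List.mem_range'_1.mpr ⟨by omega, by omega⟩) s (List.mem_range.mpr hs)
  exact entE7p2_10 r (List.mem_range'_1.mpr ⟨by omega, by omega⟩) s (List.mem_range.mpr hs)


end Cfsg.Agent.Lib.Helper6.ChevComm
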