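import Mathlib
import Cfsg.Agent.Lib.Helper6.ChevCommOrbit
import Cfsg.Agent.Lib.Helper6.ChevComm.E7Tab

/-!
# Commutator formula certificates for E7, part 3 (helper6)

Generated tables and kernel checks.
-/

set_option autoImplicit false

namespace Cfsg.Agent.Lib.Helper6.ChevComm

open Cfsg.Lie Cfsg.Agent.Lib.Helper6.ChevCommOrbit Cfsg.Agent.Lib.Helper6.ChevN

set_option maxHeartbeats 0 in
set_option maxRecDepth 100000 in
theorem entE7p3_0 : entryOKL chevE7 etasE7 parE7 depE7 (List.range' 96 3) := by
  decide +kernel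

set_option maxHeartbeats 0 in
set_option maxRecDepth 100000 in
theorem entE7p3_1 : entryOKL chevE7 etasE7 parE7 depE7 (List.range' 99 3) := by
  decide +kernel

set_option maxHeartbeats 0 in
set_option maxRecDepth 100000 in
theorem entE7p3_2 : entryOKL chevE7 etasE7 parE7 depE7 (List.range' 102 3) := by
  decide +kernel

set_option maxHeartbeats 0 in
set_option maxRecDepth 100000 in
theorem entE7p3_3 : entryOKL chevE7 etasE7 parE7 depE7 (List.range' 105 3) := by
  decide +kernel

set_option maxHeartbeats 0 in
set_option maxRecDepth 100000 in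
theorem entE7p3_4 : entryOKL chevE7 etasE7 parE7 depE7 (List.range' 108 3) := by
  decide +kernel

set_option maxHeartbeats 0 in
set_option maxRecDepth 100000 in
theorem entE7p3_5 : entryOKL chevE7 etasE7 parE7 depE7 (List.range' 111 3) := by
  decide +kernel

set_option maxHeartbeats 0 in
set_option maxRecDepth 100000 in
theorem entE7p3_6 : entryOKL chevE7 etasE7 parE7 depE7 (List.range' 114 3) := by
  decide +kernel

set_option maxHeartbeats 0 in
set_option maxRecDepth 100000 in
theorem entE7p3_7 : entryOKL chevE7 etasE7 parE7 depE7 (List.range' 117 3) := by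
  decide +kernel

set_option maxHeartbeats 0 in
set_option maxRecDepth 100000 in
theorem entE7p3_8 : entryOKL chevE7 etasE7 parE7 depE7 (List.range' 120 3) := by
  decide +kernel

set_option maxHeartbeats 0 in
set_option maxRecDepth 100000 in
theorem entE7p3_9 : entryOKL chevE7 etasE7 parE7 depE7 (List.range' 123 3) := by
  decide +kernel

theorem entE7p3 (r : ℕ) (h1 : 96 ≤ r) (h2 : r < 126) (s : ℕ) (hs : s < 126) :
    entryOK chevE7 etasE7 parE7 depE7 r s := by
  by_cases h99 : r < 99
  · exact entE7p3_0 r (List.mem_range'_1.mpr ⟨by omega, by omega⟩) s (List.mem_range.mpr hs)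
  by_cases h102 : r < 102
  · exact entE7p3_1 r (List.mem_range'_1.mpr ⟨by omega, by omega⟩) s (List.mem_range.mpr hs)
  by_cases h105 : r < 105
  · exact entE7p3_2 r (List.mem_range'_1.mpr ⟨by omega, by omega⟩) s (List.mem_range.mpr hs)
  by_cases h108 : r < 108
  · exact entE7p3_3 r (List.mem_range'_1.mpr ⟨by omega, by omega⟩) s (List.mem_range.mpr hs)
  by_cases h111 : r < 111
  · exact entE7p3_4 r (List.mem_range'_1.mpr ⟨by omega, by omega⟩) s (List.mem_range.mpr hs)
  by_cases h114 : r < 114
  · exact entE7p3_5 r (List.mem_range'_1.mpr ⟨by omega, by omega⟩) s (List.mem_range.mpr hs)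
  by_cases h117 : r < 117
  · exact entE7p3_6 r (List.mem_range'_1.mpr ⟨by omega, by omega⟩) s (List.mem_range.mpr hs)
  by_cases h120 : r < 120
  · exact entE7p3_7 r (List.mem_range'_1.mpr ⟨by omega, by omega⟩) s (List.mem_range.mpr hs)
  by_cases h123 : r < 123
  · exact entE7p3_8 r (List.mem_range'_1.mpr ⟨by omega, by omega⟩) s (List.mem_range.mpr hs)
  exact entE7p3_9 r (List.mem_range'_1.mpr ⟨by omega, by omega⟩) s (List.mem_range.mpr hs)


end Cfsg.Agent.Lib.Helper6.ChevComm
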