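import Mathlib
import Cfsg.Agent.Lib.Helper6.ChevCommOrbit

/-!
# Certificate entries for lists of pairs (helper6)

A variant of `entryOKL` restricting both roots to lists, to keep the kernel checks small.
-/

set_option autoImplicit false

namespace Cfsg.Agent.Lib.Helper6.ChevComm

open Cfsg.Lie Cfsg.Agent.Lib.Helper6.ChevCommOrbit

/-- the certificate entries of the pairs `(r, s)`, `r ∈ l`, `s ∈ ls` -/
def entryOKLS (D : ChevalleyDatum) (etasAll : List (List ℤ)) (par dep : List (List ℕ))
    (l ls : List ℕ) : Prop :=
  ∀ r ∈ l, ∀ s ∈ ls, entryOK D etasAll par dep r s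

instance (D : ChevalleyDatum) (etasAll : List (List ℤ)) (par dep : List (List ℕ))
    (l ls : List ℕ) : Decidable (entryOKLS D etasAll par dep l ls) := by
  unfold entryOKLS; infer_instance

end Cfsg.Agent.Lib.Helper6.ChevComm
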