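import Mathlib
import Cfsg.Agent.Lib.Helper6.ChevCommOrbit
import Cfsg.Agent.Lib.Helper6.ChevComm.E8Tab
import Cfsg.Agent.Lib.Helper6.ChevComm.Split

/-!
# Commutator formula certificates for E8, part 0b (helper6)

Generated tables and kernel checks.
-/

set_option autoImplicit false

namespace Cfsg.Agent.Lib.Helper6.ChevComm

open Cfsg.Lie Cfsg.Agent.Lib.Helper6.ChevCommOrbit Cfsg.Agent.Lib.Helper6.ChevN

set_option maxHeartbeats 0 in
set_option maxRecDepth 100000 in
theorem entE8p0b_0_0 : entryOKLS chevE8 etasE8 parE8 depE8 (List.range' 10 1) (List.range' 0 60) := by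
  decide +kernel

set_option maxHeartbeats 0 in
set_option maxRecDepth 100000 in
theorem entE8p0b_0_1 : entryOKLS chevE8 etasE8 parE8 depE8 (List.range' 10 1) (List.range' 60 60) := by
  decide +kernel

set_option maxHeartbeats 0 in
set_option maxRecDepth 100000 in
theorem entE8p0b_0_2 : entryOKLS chevE8 etasE8 parE8 depE8 (List.range' 10 1) (List.range' 120 60) := by
  decide +kernel

set_option maxHeartbeats 0 in
set_option maxRecDepth 100000 in
theorem entE8p0b_0_3 : entryOKLS chevE8 etasE8 parE8 depE8 (List.range' 10 1) (List.range' 180 60) := by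
  decide +kernel

theorem entE8p0b_0 (r : ℕ) (hr : r = 10) (s : ℕ) (hs : s < 240) :
    entryOK chevE8 etasE8 parE8 depE8 r s := by
  have hm : r ∈ List.range' 10 1 := List.mem_range'_1.mpr ⟨by omega, by omega⟩
  by_cases hq0 : s < 60
  · exact entE8p0b_0_0 r hm s (List.mem_range'_1.mpr ⟨by omega, by omega⟩)
  by_cases hq1 : s < 120
  · exact entE8p0b_0_1 r hm s (List.mem_range'_1.mpr ⟨by omega, by omega⟩)
  by_cases hq2 : s < 180
  · exact entE8p0b_0_2 r hm s (List.mem_range'_1.mpr ⟨by omega, by omega⟩)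
  exact entE8p0b_0_3 r hm s (List.mem_range'_1.mpr ⟨by omega, by omega⟩)

set_option maxHeartbeats 0 in
set_option maxRecDepth 100000 in
theorem entE8p0b_1_0 : entryOKLS chevE8 etasE8 parE8 depE8 (List.range' 11 1) (List.range' 0 60) := by
  decide +kernel

set_option maxHeartbeats 0 in
set_option maxRecDepth 100000 in
theorem entE8p0b_1_1 : entryOKLS chevE8 etasE8 parE8 depE8 (List.range' 11 1) (List.range' 60 60) := by
  decide +kernel

set_option maxHeartbeats 0 in
set_option maxRecDepth 100000 in
theorem entE8p0b_1_2 : entryOKLS chevE8 etasE8 parE8 depE8 (List.range' 11 1) (List.range' 120 60) := by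
  decide +kernel

set_option maxHeartbeats 0 in
set_option maxRecDepth 100000 in
theorem entE8p0b_1_3 : entryOKLS chevE8 etasE8 parE8 depE8 (List.range' 11 1) (List.range' 180 60) := by
  decide +kernel

theorem entE8p0b_1 (r : ℕ) (hr : r = 11) (s : ℕ) (hs : s < 240) :
    entryOK chevE8 etasE8 parE8 depE8 r s := by
  have hm : r ∈ List.range' 11 1 := List.mem_range'_1.mpr ⟨by omega, by omega⟩
  by_cases hq0 : s < 60
  · exact entE8p0b_1_0 r hm s (List.mem_range'_1.mpr ⟨by omega, by omega⟩)
  by_cases hq1 : s < 120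
  · exact entE8p0b_1_1 r hm s (List.mem_range'_1.mpr ⟨by omega, by omega⟩)
  by_cases hq2 : s < 180
  · exact entE8p0b_1_2 r hm s (List.mem_range'_1.mpr ⟨by omega, by omega⟩)
  exact entE8p0b_1_3 r hm s (List.mem_range'_1.mpr ⟨by omega, by omega⟩)

set_option maxHeartbeats 0 in
set_option maxRecDepth 100000 in
theorem entE8p0b_2_0 : entryOKLS chevE8 etasE8 parE8 depE8 (List.range' 12 1) (List.range' 0 60) := by
  decide +kernel

set_option maxHeartbeats 0 in
set_option maxRecDepth 100000 in
theorem entE8p0b_2_1 : entryOKLS chevE8 etasE8 parE8 depE8 (List.range' 12 1) (List.range' 60 60) := by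
  decide +kernel

set_option maxHeartbeats 0 in
set_option maxRecDepth 100000 in
theorem entE8p0b_2_2 : entryOKLS chevE8 etasE8 parE8 depE8 (List.range' 12 1) (List.range' 120 60) := by
  decide +kernel

set_option maxHeartbeats 0 in
set_option maxRecDepth 100000 in
theorem entE8p0b_2_3 : entryOKLS chevE8 etasE8 parE8 depE8 (List.range' 12 1) (List.range' 180 60) := by
  decide +kernel

theorem entE8p0b_2 (r : ℕ) (hr : r = 12) (s : ℕ) (hs : s < 240) :
    entryOK chevE8 etasE8 parE8 depE8 r s := by
  have hm : r ∈ List.range' 12 1 := List.mem_range'_1.mpr ⟨by omega, by omega⟩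
  by_cases hq0 : s < 60
  · exact entE8p0b_2_0 r hm s (List.mem_range'_1.mpr ⟨by omega, by omega⟩)
  by_cases hq1 : s < 120
  · exact entE8p0b_2_1 r hm s (List.mem_range'_1.mpr ⟨by omega, by omega⟩)
  by_cases hq2 : s < 180
  · exact entE8p0b_2_2 r hm s (List.mem_range'_1.mpr ⟨by omega, by omega⟩)
  exact entE8p0b_2_3 r hm s (List.mem_range'_1.mpr ⟨by omega, by omega⟩)

set_option maxHeartbeats 0 in
set_option maxRecDepth 100000 in
theorem entE8p0b_3_0 : entryOKLS chevE8 etasE8 parE8 depE8 (List.range' 13 1) (List.range' 0 60) := by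
  decide +kernel

set_option maxHeartbeats 0 in
set_option maxRecDepth 100000 in
theorem entE8p0b_3_1 : entryOKLS chevE8 etasE8 parE8 depE8 (List.range' 13 1) (List.range' 60 60) := by
  decide +kernel

set_option maxHeartbeats 0 in
set_option maxRecDepth 100000 in
theorem entE8p0b_3_2 : entryOKLS chevE8 etasE8 parE8 depE8 (List.range' 13 1) (List.range' 120 60) := by
  decide +kernel

set_option maxHeartbeats 0 in
set_option maxRecDepth 100000 in
theorem entE8p0b_3_3 : entryOKLS chevE8 etasE8 parE8 depE8 (List.range' 13 1) (List.range' 180 60) := by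
  decide +kernel

theorem entE8p0b_3 (r : ℕ) (hr : r = 13) (s : ℕ) (hs : s < 240) :
    entryOK chevE8 etasE8 parE8 depE8 r s := by
  have hm : r ∈ List.range' 13 1 := List.mem_range'_1.mpr ⟨by omega, by omega⟩
  by_cases hq0 : s < 60
  · exact entE8p0b_3_0 r hm s (List.mem_range'_1.mpr ⟨by omega, by omega⟩)
  by_cases hq1 : s < 120
  · exact entE8p0b_3_1 r hm s (List.mem_range'_1.mpr ⟨by omega, by omega⟩)
  by_cases hq2 : s < 180
  · exact entE8p0b_3_2 r hm s (List.mem_range'_1.mpr ⟨by omega, by omega⟩)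
  exact entE8p0b_3_3 r hm s (List.mem_range'_1.mpr ⟨by omega, by omega⟩)

set_option maxHeartbeats 0 in
set_option maxRecDepth 100000 in
theorem entE8p0b_4_0 : entryOKLS chevE8 etasE8 parE8 depE8 (List.range' 14 1) (List.range' 0 60) := by
  decide +kernel

set_option maxHeartbeats 0 in
set_option maxRecDepth 100000 in
theorem entE8p0b_4_1 : entryOKLS chevE8 etasE8 parE8 depE8 (List.range' 14 1) (List.range' 60 60) := by
  decide +kernel

set_option maxHeartbeats 0 in
set_option maxRecDepth 100000 in
theorem entE8p0b_4_2 : entryOKLS chevE8 etasE8 parE8 depE8 (List.range' 14 1) (List.range' 120 60) := by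
  decide +kernel

set_option maxHeartbeats 0 in
set_option maxRecDepth 100000 in
theorem entE8p0b_4_3 : entryOKLS chevE8 etasE8 parE8 depE8 (List.range' 14 1) (List.range' 180 60) := by
  decide +kernel

theorem entE8p0b_4 (r : ℕ) (hr : r = 14) (s : ℕ) (hs : s < 240) :
    entryOK chevE8 etasE8 parE8 depE8 r s := by
  have hm : r ∈ List.range' 14 1 := List.mem_range'_1.mpr ⟨by omega, by omega⟩
  by_cases hq0 : s < 60
  · exact entE8p0b_4_0 r hm s (List.mem_range'_1.mpr ⟨by omega, by omega⟩)
  by_cases hq1 : s < 120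
  · exact entE8p0b_4_1 r hm s (List.mem_range'_1.mpr ⟨by omega, by omega⟩)
  by_cases hq2 : s < 180
  · exact entE8p0b_4_2 r hm s (List.mem_range'_1.mpr ⟨by omega, by omega⟩)
  exact entE8p0b_4_3 r hm s (List.mem_range'_1.mpr ⟨by omega, by omega⟩)

set_option maxHeartbeats 0 in
set_option maxRecDepth 100000 in
theorem entE8p0b_5_0 : entryOKLS chevE8 etasE8 parE8 depE8 (List.range' 15 1) (List.range' 0 60) := by
  decide +kernel

set_option maxHeartbeats 0 in
set_option maxRecDepth 100000 in
theorem entE8p0b_5_1 : entryOKLS chevE8 etasE8 parE8 depE8 (List.range' 15 1) (List.range' 60 60) := by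
  decide +kernel

set_option maxHeartbeats 0 in
set_option maxRecDepth 100000 in
theorem entE8p0b_5_2 : entryOKLS chevE8 etasE8 parE8 depE8 (List.range' 15 1) (List.range' 120 60) := by
  decide +kernel

set_option maxHeartbeats 0 in
set_option maxRecDepth 100000 in
theorem entE8p0b_5_3 : entryOKLS chevE8 etasE8 parE8 depE8 (List.range' 15 1) (List.range' 180 60) := by
  decide +kernel

theorem entE8p0b_5 (r : ℕ) (hr : r = 15) (s : ℕ) (hs : s < 240) :
    entryOK chevE8 etasE8 parE8 depE8 r s := by
  have hm : r ∈ List.range' 15 1 := List.mem_range'_1.mpr ⟨by omega, by omega⟩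
  by_cases hq0 : s < 60
  · exact entE8p0b_5_0 r hm s (List.mem_range'_1.mpr ⟨by omega, by omega⟩)
  by_cases hq1 : s < 120
  · exact entE8p0b_5_1 r hm s (List.mem_range'_1.mpr ⟨by omega, by omega⟩)
  by_cases hq2 : s < 180
  · exact entE8p0b_5_2 r hm s (List.mem_range'_1.mpr ⟨by omega, by omega⟩)
  exact entE8p0b_5_3 r hm s (List.mem_range'_1.mpr ⟨by omega, by omega⟩)

set_option maxHeartbeats 0 in
set_option maxRecDepth 100000 in
theorem entE8p0b_6_0 : entryOKLS chevE8 etasE8 parE8 depE8 (List.range' 16 1) (List.range' 0 60) := by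
  decide +kernel

set_option maxHeartbeats 0 in
set_option maxRecDepth 100000 in
theorem entE8p0b_6_1 : entryOKLS chevE8 etasE8 parE8 depE8 (List.range' 16 1) (List.range' 60 60) := by
  decide +kernel

set_option maxHeartbeats 0 in
set_option maxRecDepth 100000 in
theorem entE8p0b_6_2 : entryOKLS chevE8 etasE8 parE8 depE8 (List.range' 16 1) (List.range' 120 60) := by
  decide +kernel

set_option maxHeartbeats 0 in
set_option maxRecDepth 100000 in
theorem entE8p0b_6_3 : entryOKLS chevE8 etasE8 parE8 depE8 (List.range' 16 1) (List.range' 180 60) := by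
  decide +kernel

theorem entE8p0b_6 (r : ℕ) (hr : r = 16) (s : ℕ) (hs : s < 240) :
    entryOK chevE8 etasE8 parE8 depE8 r s := by
  have hm : r ∈ List.range' 16 1 := List.mem_range'_1.mpr ⟨by omega, by omega⟩
  by_cases hq0 : s < 60
  · exact entE8p0b_6_0 r hm s (List.mem_range'_1.mpr ⟨by omega, by omega⟩)
  by_cases hq1 : s < 120
  · exact entE8p0b_6_1 r hm s (List.mem_range'_1.mpr ⟨by omega, by omega⟩)
  by_cases hq2 : s < 180
  · exact entE8p0b_6_2 r hm s (List.mem_range'_1.mpr ⟨by omega, by omega⟩)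
  exact entE8p0b_6_3 r hm s (List.mem_range'_1.mpr ⟨by omega, by omega⟩)

set_option maxHeartbeats 0 in
set_option maxRecDepth 100000 in
theorem entE8p0b_7_0 : entryOKLS chevE8 etasE8 parE8 depE8 (List.range' 17 1) (List.range' 0 60) := by
  decide +kernel

set_option maxHeartbeats 0 in
set_option maxRecDepth 100000 in
theorem entE8p0b_7_1 : entryOKLS chevE8 etasE8 parE8 depE8 (List.range' 17 1) (List.range' 60 60) := by
  decide +kernel

set_option maxHeartbeats 0 in
set_option maxRecDepth 100000 in
theorem entE8p0b_7_2 : entryOKLS chevE8 etasE8 parE8 depE8 (List.range' 17 1) (List.range' 120 60) := by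
  decide +kernel

set_option maxHeartbeats 0 in
set_option maxRecDepth 100000 in
theorem entE8p0b_7_3 : entryOKLS chevE8 etasE8 parE8 depE8 (List.range' 17 1) (List.range' 180 60) := by
  decide +kernel

theorem entE8p0b_7 (r : ℕ) (hr : r = 17) (s : ℕ) (hs : s < 240) :
    entryOK chevE8 etasE8 parE8 depE8 r s := by
  have hm : r ∈ List.range' 17 1 := List.mem_range'_1.mpr ⟨by omega, by omega⟩
  by_cases hq0 : s < 60
  · exact entE8p0b_7_0 r hm s (List.mem_range'_1.mpr ⟨by omega, by omega⟩)
  by_cases hq1 : s < 120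
  · exact entE8p0b_7_1 r hm s (List.mem_range'_1.mpr ⟨by omega, by omega⟩)
  by_cases hq2 : s < 180
  · exact entE8p0b_7_2 r hm s (List.mem_range'_1.mpr ⟨by omega, by omega⟩)
  exact entE8p0b_7_3 r hm s (List.mem_range'_1.mpr ⟨by omega, by omega⟩)

set_option maxHeartbeats 0 in
set_option maxRecDepth 100000 in
theorem entE8p0b_8_0 : entryOKLS chevE8 etasE8 parE8 depE8 (List.range' 18 1) (List.range' 0 60) := by
  decide +kernel

set_option maxHeartbeats 0 in
set_option maxRecDepth 100000 in
theorem entE8p0b_8_1 : entryOKLS chevE8 etasE8 parE8 depE8 (List.range' 18 1) (List.range' 60 60) := by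
  decide +kernel

set_option maxHeartbeats 0 in
set_option maxRecDepth 100000 in
theorem entE8p0b_8_2 : entryOKLS chevE8 etasE8 parE8 depE8 (List.range' 18 1) (List.range' 120 60) := by
  decide +kernel

set_option maxHeartbeats 0 in
set_option maxRecDepth 100000 in
theorem entE8p0b_8_3 : entryOKLS chevE8 etasE8 parE8 depE8 (List.range' 18 1) (List.range' 180 60) := by
  decide +kernel

theorem entE8p0b_8 (r : ℕ) (hr : r = 18) (s : ℕ) (hs : s < 240) :
    entryOK chevE8 etasE8 parE8 depE8 r s := by
  have hm : r ∈ List.range' 18 1 := List.mem_range'_1.mpr ⟨by omega, by omega⟩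
  by_cases hq0 : s < 60
  · exact entE8p0b_8_0 r hm s (List.mem_range'_1.mpr ⟨by omega, by omega⟩)
  by_cases hq1 : s < 120
  · exact entE8p0b_8_1 r hm s (List.mem_range'_1.mpr ⟨by omega, by omega⟩)
  by_cases hq2 : s < 180
  · exact entE8p0b_8_2 r hm s (List.mem_range'_1.mpr ⟨by omega, by omega⟩)
  exact entE8p0b_8_3 r hm s (List.mem_range'_1.mpr ⟨by omega, by omega⟩)

set_option maxHeartbeats 0 in
set_option maxRecDepth 100000 in
theorem entE8p0b_9_0 : entryOKLS chevE8 etasE8 parE8 depE8 (List.range' 19 1) (List.range' 0 60) := by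
  decide +kernel

set_option maxHeartbeats 0 in
set_option maxRecDepth 100000 in
theorem entE8p0b_9_1 : entryOKLS chevE8 etasE8 parE8 depE8 (List.range' 19 1) (List.range' 60 60) := by
  decide +kernel

set_option maxHeartbeats 0 in
set_option maxRecDepth 100000 in
theorem entE8p0b_9_2 : entryOKLS chevE8 etasE8 parE8 depE8 (List.range' 19 1) (List.range' 120 60) := by
  decide +kernel

set_option maxHeartbeats 0 in
set_option maxRecDepth 100000 in
theorem entE8p0b_9_3 : entryOKLS chevE8 etasE8 parE8 depE8 (List.range' 19 1) (List.range' 180 60) := by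
  decide +kernel

theorem entE8p0b_9 (r : ℕ) (hr : r = 19) (s : ℕ) (hs : s < 240) :
    entryOK chevE8 etasE8 parE8 depE8 r s := by
  have hm : r ∈ List.range' 19 1 := List.mem_range'_1.mpr ⟨by omega, by omega⟩
  by_cases hq0 : s < 60
  · exact entE8p0b_9_0 r hm s (List.mem_range'_1.mpr ⟨by omega, by omega⟩)
  by_cases hq1 : s < 120
  · exact entE8p0b_9_1 r hm s (List.mem_range'_1.mpr ⟨by omega, by omega⟩)
  by_cases hq2 : s < 180
  · exact entE8p0b_9_2 r hm s (List.mem_range'_1.mpr ⟨by omega, by omega⟩)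
  exact entE8p0b_9_3 r hm s (List.mem_range'_1.mpr ⟨by omega, by omega⟩)

theorem entE8p0b (r : ℕ) (h1 : 10 ≤ r) (h2 : r < 20) (s : ℕ) (hs : s < 240) :
    entryOK chevE8 etasE8 parE8 depE8 r s := by
  by_cases h11 : r < 11
  · exact entE8p0b_0 r (by omega) s hs
  by_cases h12 : r < 12
  · exact entE8p0b_1 r (by omega) s hs
  by_cases h13 : r < 13
  · exact entE8p0b_2 r (by omega) s hs
  by_cases h14 : r < 14
  · exact entE8p0b_3 r (by omega) s hs
  by_cases h15 : r < 15
  · exact entE8p0b_4 r (by omega) s hs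
  by_cases h16 : r < 16
  · exact entE8p0b_5 r (by omega) s hs
  by_cases h17 : r < 17
  · exact entE8p0b_6 r (by omega) s hs
  by_cases h18 : r < 18
  · exact entE8p0b_7 r (by omega) s hs
  by_cases h19 : r < 19
  · exact entE8p0b_8 r (by omega) s hs
  exact entE8p0b_9 r (by omega) s hs

end Cfsg.Agent.Lib.Helper6.ChevComm
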