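import Mathlib
import Cfsg.Agent.Lib.Helper6.ChevCommOrbit
import Cfsg.Agent.Lib.Helper6.ChevComm.E8Tab
import Cfsg.Agent.Lib.Helper6.ChevComm.Split

/-!
# Commutator formula certificates for E8, part 1c (helper6)

Generated tables and kernel checks.
-/

set_option autoImplicit false

namespace Cfsg.Agent.Lib.Helper6.ChevComm

open Cfsg.Lie Cfsg.Agent.Lib.Helper6.ChevCommOrbit Cfsg.Agent.Lib.Helper6.ChevN

set_option maxHeartbeats 0 in
set_option maxRecDepth 100000 in
theorem entE8p1c_0_0 : entryOKLS chevE8 etasE8 parE8 depE8 (List.range' 50 1) (List.range' 0 60) := by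
  decide +kernel

set_option maxHeartbeats 0 in
set_option maxRecDepth 100000 in
theorem entE8p1c_0_1 : entryOKLS chevE8 etasE8 parE8 depE8 (List.range' 50 1) (List.range' 60 60) := by
  decide +kernel

set_option maxHeartbeats 0 in
set_option maxRecDepth 100000 in
theorem entE8p1c_0_2 : entryOKLS chevE8 etasE8 parE8 depE8 (List.range' 50 1) (List.range' 120 60) := by
  decide +kernel

set_option maxHeartbeats 0 in
set_option maxRecDepth 100000 in
theorem entE8p1c_0_3 : entryOKLS chevE8 etasE8 parE8 depE8 (List.range' 50 1) (List.range' 180 60) := by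
  decide +kernel

theorem entE8p1c_0 (r : ℕ) (hr : r = 50) (s : ℕ) (hs : s < 240) :
    entryOK chevE8 etasE8 parE8 depE8 r s := by
  have hm : r ∈ List.range' 50 1 := List.mem_range'_1.mpr ⟨by omega, by omega⟩
  by_cases hq0 : s < 60
  · exact entE8p1c_0_0 r hm s (List.mem_range'_1.mpr ⟨by omega, by omega⟩)
  by_cases hq1 : s < 120
  · exact entE8p1c_0_1 r hm s (List.mem_range'_1.mpr ⟨by omega, by omega⟩)
  by_cases hq2 : s < 180
  · exact entE8p1c_0_2 r hm s (List.mem_range'_1.mpr ⟨by omega, by omega⟩)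
  exact entE8p1c_0_3 r hm s (List.mem_range'_1.mpr ⟨by omega, by omega⟩)

set_option maxHeartbeats 0 in
set_option maxRecDepth 100000 in
theorem entE8p1c_1_0 : entryOKLS chevE8 etasE8 parE8 depE8 (List.range' 51 1) (List.range' 0 60) := by
  decide +kernel

set_option maxHeartbeats 0 in
set_option maxRecDepth 100000 in
theorem entE8p1c_1_1 : entryOKLS chevE8 etasE8 parE8 depE8 (List.range' 51 1) (List.range' 60 60) := by
  decide +kernel

set_option maxHeartbeats 0 in
set_option maxRecDepth 100000 in
theorem entE8p1c_1_2 : entryOKLS chevE8 etasE8 parE8 depE8 (List.range' 51 1) (List.range' 120 60) := by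
  decide +kernel

set_option maxHeartbeats 0 in
set_option maxRecDepth 100000 in
theorem entE8p1c_1_3 : entryOKLS chevE8 etasE8 parE8 depE8 (List.range' 51 1) (List.range' 180 60) := by
  decide +kernel

theorem entE8p1c_1 (r : ℕ) (hr : r = 51) (s : ℕ) (hs : s < 240) :
    entryOK chevE8 etasE8 parE8 depE8 r s := by
  have hm : r ∈ List.range' 51 1 := List.mem_range'_1.mpr ⟨by omega, by omega⟩
  by_cases hq0 : s < 60
  · exact entE8p1c_1_0 r hm s (List.mem_range'_1.mpr ⟨by omega, by omega⟩)
  by_cases hq1 : s < 120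
  · exact entE8p1c_1_1 r hm s (List.mem_range'_1.mpr ⟨by omega, by omega⟩)
  by_cases hq2 : s < 180
  · exact entE8p1c_1_2 r hm s (List.mem_range'_1.mpr ⟨by omega, by omega⟩)
  exact entE8p1c_1_3 r hm s (List.mem_range'_1.mpr ⟨by omega, by omega⟩)

set_option maxHeartbeats 0 in
set_option maxRecDepth 100000 in
theorem entE8p1c_2_0 : entryOKLS chevE8 etasE8 parE8 depE8 (List.range' 52 1) (List.range' 0 60) := by
  decide +kernel

set_option maxHeartbeats 0 in
set_option maxRecDepth 100000 in
theorem entE8p1c_2_1 : entryOKLS chevE8 etasE8 parE8 depE8 (List.range' 52 1) (List.range' 60 60) := by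
  decide +kernel

set_option maxHeartbeats 0 in
set_option maxRecDepth 100000 in
theorem entE8p1c_2_2 : entryOKLS chevE8 etasE8 parE8 depE8 (List.range' 52 1) (List.range' 120 60) := by
  decide +kernel

set_option maxHeartbeats 0 in
set_option maxRecDepth 100000 in
theorem entE8p1c_2_3 : entryOKLS chevE8 etasE8 parE8 depE8 (List.range' 52 1) (List.range' 180 60) := by
  decide +kernel

theorem entE8p1c_2 (r : ℕ) (hr : r = 52) (s : ℕ) (hs : s < 240) :
    entryOK chevE8 etasE8 parE8 depE8 r s := by
  have hm : r ∈ List.range' 52 1 := List.mem_range'_1.mpr ⟨by omega, by omega⟩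
  by_cases hq0 : s < 60
  · exact entE8p1c_2_0 r hm s (List.mem_range'_1.mpr ⟨by omega, by omega⟩)
  by_cases hq1 : s < 120
  · exact entE8p1c_2_1 r hm s (List.mem_range'_1.mpr ⟨by omega, by omega⟩)
  by_cases hq2 : s < 180
  · exact entE8p1c_2_2 r hm s (List.mem_range'_1.mpr ⟨by omega, by omega⟩)
  exact entE8p1c_2_3 r hm s (List.mem_range'_1.mpr ⟨by omega, by omega⟩)

set_option maxHeartbeats 0 in
set_option maxRecDepth 100000 in
theorem entE8p1c_3_0 : entryOKLS chevE8 etasE8 parE8 depE8 (List.range' 53 1) (List.range' 0 60) := by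
  decide +kernel

set_option maxHeartbeats 0 in
set_option maxRecDepth 100000 in
theorem entE8p1c_3_1 : entryOKLS chevE8 etasE8 parE8 depE8 (List.range' 53 1) (List.range' 60 60) := by
  decide +kernel

set_option maxHeartbeats 0 in
set_option maxRecDepth 100000 in
theorem entE8p1c_3_2 : entryOKLS chevE8 etasE8 parE8 depE8 (List.range' 53 1) (List.range' 120 60) := by
  decide +kernel

set_option maxHeartbeats 0 in
set_option maxRecDepth 100000 in
theorem entE8p1c_3_3 : entryOKLS chevE8 etasE8 parE8 depE8 (List.range' 53 1) (List.range' 180 60) := by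
  decide +kernel

theorem entE8p1c_3 (r : ℕ) (hr : r = 53) (s : ℕ) (hs : s < 240) :
    entryOK chevE8 etasE8 parE8 depE8 r s := by
  have hm : r ∈ List.range' 53 1 := List.mem_range'_1.mpr ⟨by omega, by omega⟩
  by_cases hq0 : s < 60
  · exact entE8p1c_3_0 r hm s (List.mem_range'_1.mpr ⟨by omega, by omega⟩)
  by_cases hq1 : s < 120
  · exact entE8p1c_3_1 r hm s (List.mem_range'_1.mpr ⟨by omega, by omega⟩)
  by_cases hq2 : s < 180
  · exact entE8p1c_3_2 r hm s (List.mem_range'_1.mpr ⟨by omega, by omega⟩)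
  exact entE8p1c_3_3 r hm s (List.mem_range'_1.mpr ⟨by omega, by omega⟩)

set_option maxHeartbeats 0 in
set_option maxRecDepth 100000 in
theorem entE8p1c_4_0 : entryOKLS chevE8 etasE8 parE8 depE8 (List.range' 54 1) (List.range' 0 60) := by
  decide +kernel

set_option maxHeartbeats 0 in
set_option maxRecDepth 100000 in
theorem entE8p1c_4_1 : entryOKLS chevE8 etasE8 parE8 depE8 (List.range' 54 1) (List.range' 60 60) := by
  decide +kernel

set_option maxHeartbeats 0 in
set_option maxRecDepth 100000 in
theorem entE8p1c_4_2 : entryOKLS chevE8 etasE8 parE8 depE8 (List.range' 54 1) (List.range' 120 60) := by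
  decide +kernel

set_option maxHeartbeats 0 in
set_option maxRecDepth 100000 in
theorem entE8p1c_4_3 : entryOKLS chevE8 etasE8 parE8 depE8 (List.range' 54 1) (List.range' 180 60) := by
  decide +kernel

theorem entE8p1c_4 (r : ℕ) (hr : r = 54) (s : ℕ) (hs : s < 240) :
    entryOK chevE8 etasE8 parE8 depE8 r s := by
  have hm : r ∈ List.range' 54 1 := List.mem_range'_1.mpr ⟨by omega, by omega⟩
  by_cases hq0 : s < 60
  · exact entE8p1c_4_0 r hm s (List.mem_range'_1.mpr ⟨by omega, by omega⟩)
  by_cases hq1 : s < 120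
  · exact entE8p1c_4_1 r hm s (List.mem_range'_1.mpr ⟨by omega, by omega⟩)
  by_cases hq2 : s < 180
  · exact entE8p1c_4_2 r hm s (List.mem_range'_1.mpr ⟨by omega, by omega⟩)
  exact entE8p1c_4_3 r hm s (List.mem_range'_1.mpr ⟨by omega, by omega⟩)

set_option maxHeartbeats 0 in
set_option maxRecDepth 100000 in
theorem entE8p1c_5_0 : entryOKLS chevE8 etasE8 parE8 depE8 (List.range' 55 1) (List.range' 0 60) := by
  decide +kernel

set_option maxHeartbeats 0 in
set_option maxRecDepth 100000 in
theorem entE8p1c_5_1 : entryOKLS chevE8 etasE8 parE8 depE8 (List.range' 55 1) (List.range' 60 60) := by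
  decide +kernel

set_option maxHeartbeats 0 in
set_option maxRecDepth 100000 in
theorem entE8p1c_5_2 : entryOKLS chevE8 etasE8 parE8 depE8 (List.range' 55 1) (List.range' 120 60) := by
  decide +kernel

set_option maxHeartbeats 0 in
set_option maxRecDepth 100000 in
theorem entE8p1c_5_3 : entryOKLS chevE8 etasE8 parE8 depE8 (List.range' 55 1) (List.range' 180 60) := by
  decide +kernel

theorem entE8p1c_5 (r : ℕ) (hr : r = 55) (s : ℕ) (hs : s < 240) :
    entryOK chevE8 etasE8 parE8 depE8 r s := by
  have hm : r ∈ List.range' 55 1 := List.mem_range'_1.mpr ⟨by omega, by omega⟩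
  by_cases hq0 : s < 60
  · exact entE8p1c_5_0 r hm s (List.mem_range'_1.mpr ⟨by omega, by omega⟩)
  by_cases hq1 : s < 120
  · exact entE8p1c_5_1 r hm s (List.mem_range'_1.mpr ⟨by omega, by omega⟩)
  by_cases hq2 : s < 180
  · exact entE8p1c_5_2 r hm s (List.mem_range'_1.mpr ⟨by omega, by omega⟩)
  exact entE8p1c_5_3 r hm s (List.mem_range'_1.mpr ⟨by omega, by omega⟩)

set_option maxHeartbeats 0 in
set_option maxRecDepth 100000 in
theorem entE8p1c_6_0 : entryOKLS chevE8 etasE8 parE8 depE8 (List.range' 56 1) (List.range' 0 60) := by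
  decide +kernel

set_option maxHeartbeats 0 in
set_option maxRecDepth 100000 in
theorem entE8p1c_6_1 : entryOKLS chevE8 etasE8 parE8 depE8 (List.range' 56 1) (List.range' 60 60) := by
  decide +kernel

set_option maxHeartbeats 0 in
set_option maxRecDepth 100000 in
theorem entE8p1c_6_2 : entryOKLS chevE8 etasE8 parE8 depE8 (List.range' 56 1) (List.range' 120 60) := by
  decide +kernel

set_option maxHeartbeats 0 in
set_option maxRecDepth 100000 in
theorem entE8p1c_6_3 : entryOKLS chevE8 etasE8 parE8 depE8 (List.range' 56 1) (List.range' 180 60) := by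
  decide +kernel

theorem entE8p1c_6 (r : ℕ) (hr : r = 56) (s : ℕ) (hs : s < 240) :
    entryOK chevE8 etasE8 parE8 depE8 r s := by
  have hm : r ∈ List.range' 56 1 := List.mem_range'_1.mpr ⟨by omega, by omega⟩
  by_cases hq0 : s < 60
  · exact entE8p1c_6_0 r hm s (List.mem_range'_1.mpr ⟨by omega, by omega⟩)
  by_cases hq1 : s < 120
  · exact entE8p1c_6_1 r hm s (List.mem_range'_1.mpr ⟨by omega, by omega⟩)
  by_cases hq2 : s < 180
  · exact entE8p1c_6_2 r hm s (List.mem_range'_1.mpr ⟨by omega, by omega⟩)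
  exact entE8p1c_6_3 r hm s (List.mem_range'_1.mpr ⟨by omega, by omega⟩)

set_option maxHeartbeats 0 in
set_option maxRecDepth 100000 in
theorem entE8p1c_7_0 : entryOKLS chevE8 etasE8 parE8 depE8 (List.range' 57 1) (List.range' 0 60) := by
  decide +kernel

set_option maxHeartbeats 0 in
set_option maxRecDepth 100000 in
theorem entE8p1c_7_1 : entryOKLS chevE8 etasE8 parE8 depE8 (List.range' 57 1) (List.range' 60 60) := by
  decide +kernel

set_option maxHeartbeats 0 in
set_option maxRecDepth 100000 in
theorem entE8p1c_7_2 : entryOKLS chevE8 etasE8 parE8 depE8 (List.range' 57 1) (List.range' 120 60) := by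
  decide +kernel

set_option maxHeartbeats 0 in
set_option maxRecDepth 100000 in
theorem entE8p1c_7_3 : entryOKLS chevE8 etasE8 parE8 depE8 (List.range' 57 1) (List.range' 180 60) := by
  decide +kernel

theorem entE8p1c_7 (r : ℕ) (hr : r = 57) (s : ℕ) (hs : s < 240) :
    entryOK chevE8 etasE8 parE8 depE8 r s := by
  have hm : r ∈ List.range' 57 1 := List.mem_range'_1.mpr ⟨by omega, by omega⟩
  by_cases hq0 : s < 60
  · exact entE8p1c_7_0 r hm s (List.mem_range'_1.mpr ⟨by omega, by omega⟩)
  by_cases hq1 : s < 120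
  · exact entE8p1c_7_1 r hm s (List.mem_range'_1.mpr ⟨by omega, by omega⟩)
  by_cases hq2 : s < 180
  · exact entE8p1c_7_2 r hm s (List.mem_range'_1.mpr ⟨by omega, by omega⟩)
  exact entE8p1c_7_3 r hm s (List.mem_range'_1.mpr ⟨by omega, by omega⟩)

set_option maxHeartbeats 0 in
set_option maxRecDepth 100000 in
theorem entE8p1c_8_0 : entryOKLS chevE8 etasE8 parE8 depE8 (List.range' 58 1) (List.range' 0 60) := by
  decide +kernel

set_option maxHeartbeats 0 in
set_option maxRecDepth 100000 in
theorem entE8p1c_8_1 : entryOKLS chevE8 etasE8 parE8 depE8 (List.range' 58 1) (List.range' 60 60) := by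
  decide +kernel

set_option maxHeartbeats 0 in
set_option maxRecDepth 100000 in
theorem entE8p1c_8_2 : entryOKLS chevE8 etasE8 parE8 depE8 (List.range' 58 1) (List.range' 120 60) := by
  decide +kernel

set_option maxHeartbeats 0 in
set_option maxRecDepth 100000 in
theorem entE8p1c_8_3 : entryOKLS chevE8 etasE8 parE8 depE8 (List.range' 58 1) (List.range' 180 60) := by
  decide +kernel

theorem entE8p1c_8 (r : ℕ) (hr : r = 58) (s : ℕ) (hs : s < 240) :
    entryOK chevE8 etasE8 parE8 depE8 r s := by
  have hm : r ∈ List.range' 58 1 := List.mem_range'_1.mpr ⟨by omega, by omega⟩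
  by_cases hq0 : s < 60
  · exact entE8p1c_8_0 r hm s (List.mem_range'_1.mpr ⟨by omega, by omega⟩)
  by_cases hq1 : s < 120
  · exact entE8p1c_8_1 r hm s (List.mem_range'_1.mpr ⟨by omega, by omega⟩)
  by_cases hq2 : s < 180
  · exact entE8p1c_8_2 r hm s (List.mem_range'_1.mpr ⟨by omega, by omega⟩)
  exact entE8p1c_8_3 r hm s (List.mem_range'_1.mpr ⟨by omega, by omega⟩)

set_option maxHeartbeats 0 in
set_option maxRecDepth 100000 in
theorem entE8p1c_9_0 : entryOKLS chevE8 etasE8 parE8 depE8 (List.range' 59 1) (List.range' 0 60) := by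
  decide +kernel

set_option maxHeartbeats 0 in
set_option maxRecDepth 100000 in
theorem entE8p1c_9_1 : entryOKLS chevE8 etasE8 parE8 depE8 (List.range' 59 1) (List.range' 60 60) := by
  decide +kernel

set_option maxHeartbeats 0 in
set_option maxRecDepth 100000 in
theorem entE8p1c_9_2 : entryOKLS chevE8 etasE8 parE8 depE8 (List.range' 59 1) (List.range' 120 60) := by
  decide +kernel

set_option maxHeartbeats 0 in
set_option maxRecDepth 100000 in
theorem entE8p1c_9_3 : entryOKLS chevE8 etasE8 parE8 depE8 (List.range' 59 1) (List.range' 180 60) := by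
  decide +kernel

theorem entE8p1c_9 (r : ℕ) (hr : r = 59) (s : ℕ) (hs : s < 240) :
    entryOK chevE8 etasE8 parE8 depE8 r s := by
  have hm : r ∈ List.range' 59 1 := List.mem_range'_1.mpr ⟨by omega, by omega⟩
  by_cases hq0 : s < 60
  · exact entE8p1c_9_0 r hm s (List.mem_range'_1.mpr ⟨by omega, by omega⟩)
  by_cases hq1 : s < 120
  · exact entE8p1c_9_1 r hm s (List.mem_range'_1.mpr ⟨by omega, by omega⟩)
  by_cases hq2 : s < 180
  · exact entE8p1c_9_2 r hm s (List.mem_range'_1.mpr ⟨by omega, by omega⟩)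
  exact entE8p1c_9_3 r hm s (List.mem_range'_1.mpr ⟨by omega, by omega⟩)

theorem entE8p1c (r : ℕ) (h1 : 50 ≤ r) (h2 : r < 60) (s : ℕ) (hs : s < 240) :
    entryOK chevE8 etasE8 parE8 depE8 r s := by
  by_cases h51 : r < 51
  · exact entE8p1c_0 r (by omega) s hs
  by_cases h52 : r < 52
  · exact entE8p1c_1 r (by omega) s hs
  by_cases h53 : r < 53
  · exact entE8p1c_2 r (by omega) s hs
  by_cases h54 : r < 54
  · exact entE8p1c_3 r (by omega) s hs
  by_cases h55 : r < 55
  · exact entE8p1c_4 r (by omega) s hs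
  by_cases h56 : r < 56
  · exact entE8p1c_5 r (by omega) s hs
  by_cases h57 : r < 57
  · exact entE8p1c_6 r (by omega) s hs
  by_cases h58 : r < 58
  · exact entE8p1c_7 r (by omega) s hs
  by_cases h59 : r < 59
  · exact entE8p1c_8 r (by omega) s hs
  exact entE8p1c_9 r (by omega) s hs

end Cfsg.Agent.Lib.Helper6.ChevComm
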