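import Mathlib
import Cfsg.Agent.Lib.Helper6.ChevCommOrbit
import Cfsg.Agent.Lib.Helper6.ChevComm.E8Tab
import Cfsg.Agent.Lib.Helper6.ChevComm.Split

/-!
# Commutator formula certificates for E8, part 2b (helper6)

Generated tables and kernel checks.
-/

set_option autoImplicit false

namespace Cfsg.Agent.Lib.Helper6.ChevComm

open Cfsg.Lie Cfsg.Agent.Lib.Helper6.ChevCommOrbit Cfsg.Agent.Lib.Helper6.ChevN

set_option maxHeartbeats 0 in
set_option maxRecDepth 100000 in
theorem entE8p2b_0_0 : entryOKLS chevE8 etasE8 parE8 depE8 (List.range' 70 1) (List.range' 0 60) := by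
  decide +kernel

set_option maxHeartbeats 0 in
set_option maxRecDepth 100000 in
theorem entE8p2b_0_1 : entryOKLS chevE8 etasE8 parE8 depE8 (List.range' 70 1) (List.range' 60 60) := by
  decide +kernel

set_option maxHeartbeats 0 in
set_option maxRecDepth 100000 in
theorem entE8p2b_0_2 : entryOKLS chevE8 etasE8 parE8 depE8 (List.range' 70 1) (List.range' 120 60) := by
  decide +kernel

set_option maxHeartbeats 0 in
set_option maxRecDepth 100000 in
theorem entE8p2b_0_3 : entryOKLS chevE8 etasE8 parE8 depE8 (List.range' 70 1) (List.range' 180 60) := by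
  decide +kernel

theorem entE8p2b_0 (r : ℕ) (hr : r = 70) (s : ℕ) (hs : s < 240) :
    entryOK chevE8 etasE8 parE8 depE8 r s := by
  have hm : r ∈ List.range' 70 1 := List.mem_range'_1.mpr ⟨by omega, by omega⟩
  by_cases hq0 : s < 60
  · exact entE8p2b_0_0 r hm s (List.mem_range'_1.mpr ⟨by omega, by omega⟩)
  by_cases hq1 : s < 120
  · exact entE8p2b_0_1 r hm s (List.mem_range'_1.mpr ⟨by omega, by omega⟩)
  by_cases hq2 : s < 180
  · exact entE8p2b_0_2 r hm s (List.mem_range'_1.mpr ⟨by omega, by omega⟩)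
  exact entE8p2b_0_3 r hm s (List.mem_range'_1.mpr ⟨by omega, by omega⟩)

set_option maxHeartbeats 0 in
set_option maxRecDepth 100000 in
theorem entE8p2b_1_0 : entryOKLS chevE8 etasE8 parE8 depE8 (List.range' 71 1) (List.range' 0 60) := by
  decide +kernel

set_option maxHeartbeats 0 in
set_option maxRecDepth 100000 in
theorem entE8p2b_1_1 : entryOKLS chevE8 etasE8 parE8 depE8 (List.range' 71 1) (List.range' 60 60) := by
  decide +kernel

set_option maxHeartbeats 0 in
set_option maxRecDepth 100000 in
theorem entE8p2b_1_2 : entryOKLS chevE8 etasE8 parE8 depE8 (List.range' 71 1) (List.range' 120 60) := by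
  decide +kernel

set_option maxHeartbeats 0 in
set_option maxRecDepth 100000 in
theorem entE8p2b_1_3 : entryOKLS chevE8 etasE8 parE8 depE8 (List.range' 71 1) (List.range' 180 60) := by
  decide +kernel

theorem entE8p2b_1 (r : ℕ) (hr : r = 71) (s : ℕ) (hs : s < 240) :
    entryOK chevE8 etasE8 parE8 depE8 r s := by
  have hm : r ∈ List.range' 71 1 := List.mem_range'_1.mpr ⟨by omega, by omega⟩
  by_cases hq0 : s < 60
  · exact entE8p2b_1_0 r hm s (List.mem_range'_1.mpr ⟨by omega, by omega⟩)
  by_cases hq1 : s < 120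
  · exact entE8p2b_1_1 r hm s (List.mem_range'_1.mpr ⟨by omega, by omega⟩)
  by_cases hq2 : s < 180
  · exact entE8p2b_1_2 r hm s (List.mem_range'_1.mpr ⟨by omega, by omega⟩)
  exact entE8p2b_1_3 r hm s (List.mem_range'_1.mpr ⟨by omega, by omega⟩)

set_option maxHeartbeats 0 in
set_option maxRecDepth 100000 in
theorem entE8p2b_2_0 : entryOKLS chevE8 etasE8 parE8 depE8 (List.range' 72 1) (List.range' 0 60) := by
  decide +kernel

set_option maxHeartbeats 0 in
set_option maxRecDepth 100000 in
theorem entE8p2b_2_1 : entryOKLS chevE8 etasE8 parE8 depE8 (List.range' 72 1) (List.range' 60 60) := by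
  decide +kernel

set_option maxHeartbeats 0 in
set_option maxRecDepth 100000 in
theorem entE8p2b_2_2 : entryOKLS chevE8 etasE8 parE8 depE8 (List.range' 72 1) (List.range' 120 60) := by
  decide +kernel

set_option maxHeartbeats 0 in
set_option maxRecDepth 100000 in
theorem entE8p2b_2_3 : entryOKLS chevE8 etasE8 parE8 depE8 (List.range' 72 1) (List.range' 180 60) := by
  decide +kernel

theorem entE8p2b_2 (r : ℕ) (hr : r = 72) (s : ℕ) (hs : s < 240) :
    entryOK chevE8 etasE8 parE8 depE8 r s := by
  have hm : r ∈ List.range' 72 1 := List.mem_range'_1.mpr ⟨by omega, by omega⟩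
  by_cases hq0 : s < 60
  · exact entE8p2b_2_0 r hm s (List.mem_range'_1.mpr ⟨by omega, by omega⟩)
  by_cases hq1 : s < 120
  · exact entE8p2b_2_1 r hm s (List.mem_range'_1.mpr ⟨by omega, by omega⟩)
  by_cases hq2 : s < 180
  · exact entE8p2b_2_2 r hm s (List.mem_range'_1.mpr ⟨by omega, by omega⟩)
  exact entE8p2b_2_3 r hm s (List.mem_range'_1.mpr ⟨by omega, by omega⟩)

set_option maxHeartbeats 0 in
set_option maxRecDepth 100000 in
theorem entE8p2b_3_0 : entryOKLS chevE8 etasE8 parE8 depE8 (List.range' 73 1) (List.range' 0 60) := by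
  decide +kernel

set_option maxHeartbeats 0 in
set_option maxRecDepth 100000 in
theorem entE8p2b_3_1 : entryOKLS chevE8 etasE8 parE8 depE8 (List.range' 73 1) (List.range' 60 60) := by
  decide +kernel

set_option maxHeartbeats 0 in
set_option maxRecDepth 100000 in
theorem entE8p2b_3_2 : entryOKLS chevE8 etasE8 parE8 depE8 (List.range' 73 1) (List.range' 120 60) := by
  decide +kernel

set_option maxHeartbeats 0 in
set_option maxRecDepth 100000 in
theorem entE8p2b_3_3 : entryOKLS chevE8 etasE8 parE8 depE8 (List.range' 73 1) (List.range' 180 60) := by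
  decide +kernel

theorem entE8p2b_3 (r : ℕ) (hr : r = 73) (s : ℕ) (hs : s < 240) :
    entryOK chevE8 etasE8 parE8 depE8 r s := by
  have hm : r ∈ List.range' 73 1 := List.mem_range'_1.mpr ⟨by omega, by omega⟩
  by_cases hq0 : s < 60
  · exact entE8p2b_3_0 r hm s (List.mem_range'_1.mpr ⟨by omega, by omega⟩)
  by_cases hq1 : s < 120
  · exact entE8p2b_3_1 r hm s (List.mem_range'_1.mpr ⟨by omega, by omega⟩)
  by_cases hq2 : s < 180
  · exact entE8p2b_3_2 r hm s (List.mem_range'_1.mpr ⟨by omega, by omega⟩)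
  exact entE8p2b_3_3 r hm s (List.mem_range'_1.mpr ⟨by omega, by omega⟩)

set_option maxHeartbeats 0 in
set_option maxRecDepth 100000 in
theorem entE8p2b_4_0 : entryOKLS chevE8 etasE8 parE8 depE8 (List.range' 74 1) (List.range' 0 60) := by
  decide +kernel

set_option maxHeartbeats 0 in
set_option maxRecDepth 100000 in
theorem entE8p2b_4_1 : entryOKLS chevE8 etasE8 parE8 depE8 (List.range' 74 1) (List.range' 60 60) := by
  decide +kernel

set_option maxHeartbeats 0 in
set_option maxRecDepth 100000 in
theorem entE8p2b_4_2 : entryOKLS chevE8 etasE8 parE8 depE8 (List.range' 74 1) (List.range' 120 60) := by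
  decide +kernel

set_option maxHeartbeats 0 in
set_option maxRecDepth 100000 in
theorem entE8p2b_4_3 : entryOKLS chevE8 etasE8 parE8 depE8 (List.range' 74 1) (List.range' 180 60) := by
  decide +kernel

theorem entE8p2b_4 (r : ℕ) (hr : r = 74) (s : ℕ) (hs : s < 240) :
    entryOK chevE8 etasE8 parE8 depE8 r s := by
  have hm : r ∈ List.range' 74 1 := List.mem_range'_1.mpr ⟨by omega, by omega⟩
  by_cases hq0 : s < 60
  · exact entE8p2b_4_0 r hm s (List.mem_range'_1.mpr ⟨by omega, by omega⟩)
  by_cases hq1 : s < 120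
  · exact entE8p2b_4_1 r hm s (List.mem_range'_1.mpr ⟨by omega, by omega⟩)
  by_cases hq2 : s < 180
  · exact entE8p2b_4_2 r hm s (List.mem_range'_1.mpr ⟨by omega, by omega⟩)
  exact entE8p2b_4_3 r hm s (List.mem_range'_1.mpr ⟨by omega, by omega⟩)

set_option maxHeartbeats 0 in
set_option maxRecDepth 100000 in
theorem entE8p2b_5_0 : entryOKLS chevE8 etasE8 parE8 depE8 (List.range' 75 1) (List.range' 0 60) := by
  decide +kernel

set_option maxHeartbeats 0 in
set_option maxRecDepth 100000 in
theorem entE8p2b_5_1 : entryOKLS chevE8 etasE8 parE8 depE8 (List.range' 75 1) (List.range' 60 60) := by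
  decide +kernel

set_option maxHeartbeats 0 in
set_option maxRecDepth 100000 in
theorem entE8p2b_5_2 : entryOKLS chevE8 etasE8 parE8 depE8 (List.range' 75 1) (List.range' 120 60) := by
  decide +kernel

set_option maxHeartbeats 0 in
set_option maxRecDepth 100000 in
theorem entE8p2b_5_3 : entryOKLS chevE8 etasE8 parE8 depE8 (List.range' 75 1) (List.range' 180 60) := by
  decide +kernel

theorem entE8p2b_5 (r : ℕ) (hr : r = 75) (s : ℕ) (hs : s < 240) :
    entryOK chevE8 etasE8 parE8 depE8 r s := by
  have hm : r ∈ List.range' 75 1 := List.mem_range'_1.mpr ⟨by omega, by omega⟩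
  by_cases hq0 : s < 60
  · exact entE8p2b_5_0 r hm s (List.mem_range'_1.mpr ⟨by omega, by omega⟩)
  by_cases hq1 : s < 120
  · exact entE8p2b_5_1 r hm s (List.mem_range'_1.mpr ⟨by omega, by omega⟩)
  by_cases hq2 : s < 180
  · exact entE8p2b_5_2 r hm s (List.mem_range'_1.mpr ⟨by omega, by omega⟩)
  exact entE8p2b_5_3 r hm s (List.mem_range'_1.mpr ⟨by omega, by omega⟩)

set_option maxHeartbeats 0 in
set_option maxRecDepth 100000 in
theorem entE8p2b_6_0 : entryOKLS chevE8 etasE8 parE8 depE8 (List.range' 76 1) (List.range' 0 60) := by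
  decide +kernel

set_option maxHeartbeats 0 in
set_option maxRecDepth 100000 in
theorem entE8p2b_6_1 : entryOKLS chevE8 etasE8 parE8 depE8 (List.range' 76 1) (List.range' 60 60) := by
  decide +kernel

set_option maxHeartbeats 0 in
set_option maxRecDepth 100000 in
theorem entE8p2b_6_2 : entryOKLS chevE8 etasE8 parE8 depE8 (List.range' 76 1) (List.range' 120 60) := by
  decide +kernel

set_option maxHeartbeats 0 in
set_option maxRecDepth 100000 in
theorem entE8p2b_6_3 : entryOKLS chevE8 etasE8 parE8 depE8 (List.range' 76 1) (List.range' 180 60) := by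
  decide +kernel

theorem entE8p2b_6 (r : ℕ) (hr : r = 76) (s : ℕ) (hs : s < 240) :
    entryOK chevE8 etasE8 parE8 depE8 r s := by
  have hm : r ∈ List.range' 76 1 := List.mem_range'_1.mpr ⟨by omega, by omega⟩
  by_cases hq0 : s < 60
  · exact entE8p2b_6_0 r hm s (List.mem_range'_1.mpr ⟨by omega, by omega⟩)
  by_cases hq1 : s < 120
  · exact entE8p2b_6_1 r hm s (List.mem_range'_1.mpr ⟨by omega, by omega⟩)
  by_cases hq2 : s < 180
  · exact entE8p2b_6_2 r hm s (List.mem_range'_1.mpr ⟨by omega, by omega⟩)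
  exact entE8p2b_6_3 r hm s (List.mem_range'_1.mpr ⟨by omega, by omega⟩)

set_option maxHeartbeats 0 in
set_option maxRecDepth 100000 in
theorem entE8p2b_7_0 : entryOKLS chevE8 etasE8 parE8 depE8 (List.range' 77 1) (List.range' 0 60) := by
  decide +kernel

set_option maxHeartbeats 0 in
set_option maxRecDepth 100000 in
theorem entE8p2b_7_1 : entryOKLS chevE8 etasE8 parE8 depE8 (List.range' 77 1) (List.range' 60 60) := by
  decide +kernel

set_option maxHeartbeats 0 in
set_option maxRecDepth 100000 in
theorem entE8p2b_7_2 : entryOKLS chevE8 etasE8 parE8 depE8 (List.range' 77 1) (List.range' 120 60) := by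
  decide +kernel

set_option maxHeartbeats 0 in
set_option maxRecDepth 100000 in
theorem entE8p2b_7_3 : entryOKLS chevE8 etasE8 parE8 depE8 (List.range' 77 1) (List.range' 180 60) := by
  decide +kernel

theorem entE8p2b_7 (r : ℕ) (hr : r = 77) (s : ℕ) (hs : s < 240) :
    entryOK chevE8 etasE8 parE8 depE8 r s := by
  have hm : r ∈ List.range' 77 1 := List.mem_range'_1.mpr ⟨by omega, by omega⟩
  by_cases hq0 : s < 60
  · exact entE8p2b_7_0 r hm s (List.mem_range'_1.mpr ⟨by omega, by omega⟩)
  by_cases hq1 : s < 120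
  · exact entE8p2b_7_1 r hm s (List.mem_range'_1.mpr ⟨by omega, by omega⟩)
  by_cases hq2 : s < 180
  · exact entE8p2b_7_2 r hm s (List.mem_range'_1.mpr ⟨by omega, by omega⟩)
  exact entE8p2b_7_3 r hm s (List.mem_range'_1.mpr ⟨by omega, by omega⟩)

set_option maxHeartbeats 0 in
set_option maxRecDepth 100000 in
theorem entE8p2b_8_0 : entryOKLS chevE8 etasE8 parE8 depE8 (List.range' 78 1) (List.range' 0 60) := by
  decide +kernel

set_option maxHeartbeats 0 in
set_option maxRecDepth 100000 in
theorem entE8p2b_8_1 : entryOKLS chevE8 etasE8 parE8 depE8 (List.range' 78 1) (List.range' 60 60) := by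
  decide +kernel

set_option maxHeartbeats 0 in
set_option maxRecDepth 100000 in
theorem entE8p2b_8_2 : entryOKLS chevE8 etasE8 parE8 depE8 (List.range' 78 1) (List.range' 120 60) := by
  decide +kernel

set_option maxHeartbeats 0 in
set_option maxRecDepth 100000 in
theorem entE8p2b_8_3 : entryOKLS chevE8 etasE8 parE8 depE8 (List.range' 78 1) (List.range' 180 60) := by
  decide +kernel

theorem entE8p2b_8 (r : ℕ) (hr : r = 78) (s : ℕ) (hs : s < 240) :
    entryOK chevE8 etasE8 parE8 depE8 r s := by
  have hm : r ∈ List.range' 78 1 := List.mem_range'_1.mpr ⟨by omega, by omega⟩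
  by_cases hq0 : s < 60
  · exact entE8p2b_8_0 r hm s (List.mem_range'_1.mpr ⟨by omega, by omega⟩)
  by_cases hq1 : s < 120
  · exact entE8p2b_8_1 r hm s (List.mem_range'_1.mpr ⟨by omega, by omega⟩)
  by_cases hq2 : s < 180
  · exact entE8p2b_8_2 r hm s (List.mem_range'_1.mpr ⟨by omega, by omega⟩)
  exact entE8p2b_8_3 r hm s (List.mem_range'_1.mpr ⟨by omega, by omega⟩)

set_option maxHeartbeats 0 in
set_option maxRecDepth 100000 in
theorem entE8p2b_9_0 : entryOKLS chevE8 etasE8 parE8 depE8 (List.range' 79 1) (List.range' 0 60) := by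
  decide +kernel

set_option maxHeartbeats 0 in
set_option maxRecDepth 100000 in
theorem entE8p2b_9_1 : entryOKLS chevE8 etasE8 parE8 depE8 (List.range' 79 1) (List.range' 60 60) := by
  decide +kernel

set_option maxHeartbeats 0 in
set_option maxRecDepth 100000 in
theorem entE8p2b_9_2 : entryOKLS chevE8 etasE8 parE8 depE8 (List.range' 79 1) (List.range' 120 60) := by
  decide +kernel

set_option maxHeartbeats 0 in
set_option maxRecDepth 100000 in
theorem entE8p2b_9_3 : entryOKLS chevE8 etasE8 parE8 depE8 (List.range' 79 1) (List.range' 180 60) := by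
  decide +kernel

theorem entE8p2b_9 (r : ℕ) (hr : r = 79) (s : ℕ) (hs : s < 240) :
    entryOK chevE8 etasE8 parE8 depE8 r s := by
  have hm : r ∈ List.range' 79 1 := List.mem_range'_1.mpr ⟨by omega, by omega⟩
  by_cases hq0 : s < 60
  · exact entE8p2b_9_0 r hm s (List.mem_range'_1.mpr ⟨by omega, by omega⟩)
  by_cases hq1 : s < 120
  · exact entE8p2b_9_1 r hm s (List.mem_range'_1.mpr ⟨by omega, by omega⟩)
  by_cases hq2 : s < 180
  · exact entE8p2b_9_2 r hm s (List.mem_range'_1.mpr ⟨by omega, by omega⟩)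
  exact entE8p2b_9_3 r hm s (List.mem_range'_1.mpr ⟨by omega, by omega⟩)

theorem entE8p2b (r : ℕ) (h1 : 70 ≤ r) (h2 : r < 80) (s : ℕ) (hs : s < 240) :
    entryOK chevE8 etasE8 parE8 depE8 r s := by
  by_cases h71 : r < 71
  · exact entE8p2b_0 r (by omega) s hs
  by_cases h72 : r < 72
  · exact entE8p2b_1 r (by omega) s hs
  by_cases h73 : r < 73
  · exact entE8p2b_2 r (by omega) s hs
  by_cases h74 : r < 74
  · exact entE8p2b_3 r (by omega) s hs
  by_cases h75 : r < 75
  · exact entE8p2b_4 r (by omega) s hs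
  by_cases h76 : r < 76
  · exact entE8p2b_5 r (by omega) s hs
  by_cases h77 : r < 77
  · exact entE8p2b_6 r (by omega) s hs
  by_cases h78 : r < 78
  · exact entE8p2b_7 r (by omega) s hs
  by_cases h79 : r < 79
  · exact entE8p2b_8 r (by omega) s hs
  exact entE8p2b_9 r (by omega) s hs

end Cfsg.Agent.Lib.Helper6.ChevComm
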