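import Mathlib
import Cfsg.Agent.Lib.Helper6.ChevCommOrbit
import Cfsg.Agent.Lib.Helper6.ChevComm.E8Tab
import Cfsg.Agent.Lib.Helper6.ChevComm.Split

/-!
# Commutator formula certificates for E8, part 3a (helper6)

Generated tables and kernel checks.
-/

set_option autoImplicit false

namespace Cfsg.Agent.Lib.Helper6.ChevComm

open Cfsg.Lie Cfsg.Agent.Lib.Helper6.ChevCommOrbit Cfsg.Agent.Lib.Helper6.ChevN

set_option maxHeartbeats 0 in
set_option maxRecDepth 100000 in
theorem entE8p3a_0_0 : entryOKLS chevE8 etasE8 parE8 depE8 (List.range' 90 1) (List.range' 0 60) := by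
  decide +kernel

set_option maxHeartbeats 0 in
set_option maxRecDepth 100000 in
theorem entE8p3a_0_1 : entryOKLS chevE8 etasE8 parE8 depE8 (List.range' 90 1) (List.range' 60 60) := by
  decide +kernel

set_option maxHeartbeats 0 in
set_option maxRecDepth 100000 in
theorem entE8p3a_0_2 : entryOKLS chevE8 etasE8 parE8 depE8 (List.range' 90 1) (List.range' 120 60) := by
  decide +kernel

set_option maxHeartbeats 0 in
set_option maxRecDepth 100000 in
theorem entE8p3a_0_3 : entryOKLS chevE8 etasE8 parE8 depE8 (List.range' 90 1) (List.range' 180 60) := by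
  decide +kernel

theorem entE8p3a_0 (r : ℕ) (hr : r = 90) (s : ℕ) (hs : s < 240) :
    entryOK chevE8 etasE8 parE8 depE8 r s := by
  have hm : r ∈ List.range' 90 1 := List.mem_range'_1.mpr ⟨by omega, by omega⟩
  by_cases hq0 : s < 60
  · exact entE8p3a_0_0 r hm s (List.mem_range'_1.mpr ⟨by omega, by omega⟩)
  by_cases hq1 : s < 120
  · exact entE8p3a_0_1 r hm s (List.mem_range'_1.mpr ⟨by omega, by omega⟩)
  by_cases hq2 : s < 180
  · exact entE8p3a_0_2 r hm s (List.mem_range'_1.mpr ⟨by omega, by omega⟩)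
  exact entE8p3a_0_3 r hm s (List.mem_range'_1.mpr ⟨by omega, by omega⟩)

set_option maxHeartbeats 0 in
set_option maxRecDepth 100000 in
theorem entE8p3a_1_0 : entryOKLS chevE8 etasE8 parE8 depE8 (List.range' 91 1) (List.range' 0 60) := by
  decide +kernel

set_option maxHeartbeats 0 in
set_option maxRecDepth 100000 in
theorem entE8p3a_1_1 : entryOKLS chevE8 etasE8 parE8 depE8 (List.range' 91 1) (List.range' 60 60) := by
  decide +kernel

set_option maxHeartbeats 0 in
set_option maxRecDepth 100000 in
theorem entE8p3a_1_2 : entryOKLS chevE8 etasE8 parE8 depE8 (List.range' 91 1) (List.range' 120 60) := by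
  decide +kernel

set_option maxHeartbeats 0 in
set_option maxRecDepth 100000 in
theorem entE8p3a_1_3 : entryOKLS chevE8 etasE8 parE8 depE8 (List.range' 91 1) (List.range' 180 60) := by
  decide +kernel

theorem entE8p3a_1 (r : ℕ) (hr : r = 91) (s : ℕ) (hs : s < 240) :
    entryOK chevE8 etasE8 parE8 depE8 r s := by
  have hm : r ∈ List.range' 91 1 := List.mem_range'_1.mpr ⟨by omega, by omega⟩
  by_cases hq0 : s < 60
  · exact entE8p3a_1_0 r hm s (List.mem_range'_1.mpr ⟨by omega, by omega⟩)
  by_cases hq1 : s < 120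
  · exact entE8p3a_1_1 r hm s (List.mem_range'_1.mpr ⟨by omega, by omega⟩)
  by_cases hq2 : s < 180
  · exact entE8p3a_1_2 r hm s (List.mem_range'_1.mpr ⟨by omega, by omega⟩)
  exact entE8p3a_1_3 r hm s (List.mem_range'_1.mpr ⟨by omega, by omega⟩)

set_option maxHeartbeats 0 in
set_option maxRecDepth 100000 in
theorem entE8p3a_2_0 : entryOKLS chevE8 etasE8 parE8 depE8 (List.range' 92 1) (List.range' 0 60) := by
  decide +kernel

set_option maxHeartbeats 0 in
set_option maxRecDepth 100000 in
theorem entE8p3a_2_1 : entryOKLS chevE8 etasE8 parE8 depE8 (List.range' 92 1) (List.range' 60 60) := by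
  decide +kernel

set_option maxHeartbeats 0 in
set_option maxRecDepth 100000 in
theorem entE8p3a_2_2 : entryOKLS chevE8 etasE8 parE8 depE8 (List.range' 92 1) (List.range' 120 60) := by
  decide +kernel

set_option maxHeartbeats 0 in
set_option maxRecDepth 100000 in
theorem entE8p3a_2_3 : entryOKLS chevE8 etasE8 parE8 depE8 (List.range' 92 1) (List.range' 180 60) := by
  decide +kernel

theorem entE8p3a_2 (r : ℕ) (hr : r = 92) (s : ℕ) (hs : s < 240) :
    entryOK chevE8 etasE8 parE8 depE8 r s := by
  have hm : r ∈ List.range' 92 1 := List.mem_range'_1.mpr ⟨by omega, by omega⟩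
  by_cases hq0 : s < 60
  · exact entE8p3a_2_0 r hm s (List.mem_range'_1.mpr ⟨by omega, by omega⟩)
  by_cases hq1 : s < 120
  · exact entE8p3a_2_1 r hm s (List.mem_range'_1.mpr ⟨by omega, by omega⟩)
  by_cases hq2 : s < 180
  · exact entE8p3a_2_2 r hm s (List.mem_range'_1.mpr ⟨by omega, by omega⟩)
  exact entE8p3a_2_3 r hm s (List.mem_range'_1.mpr ⟨by omega, by omega⟩)

set_option maxHeartbeats 0 in
set_option maxRecDepth 100000 in
theorem entE8p3a_3_0 : entryOKLS chevE8 etasE8 parE8 depE8 (List.range' 93 1) (List.range' 0 60) := by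
  decide +kernel

set_option maxHeartbeats 0 in
set_option maxRecDepth 100000 in
theorem entE8p3a_3_1 : entryOKLS chevE8 etasE8 parE8 depE8 (List.range' 93 1) (List.range' 60 60) := by
  decide +kernel

set_option maxHeartbeats 0 in
set_option maxRecDepth 100000 in
theorem entE8p3a_3_2 : entryOKLS chevE8 etasE8 parE8 depE8 (List.range' 93 1) (List.range' 120 60) := by
  decide +kernel

set_option maxHeartbeats 0 in
set_option maxRecDepth 100000 in
theorem entE8p3a_3_3 : entryOKLS chevE8 etasE8 parE8 depE8 (List.range' 93 1) (List.range' 180 60) := by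
  decide +kernel

theorem entE8p3a_3 (r : ℕ) (hr : r = 93) (s : ℕ) (hs : s < 240) :
    entryOK chevE8 etasE8 parE8 depE8 r s := by
  have hm : r ∈ List.range' 93 1 := List.mem_range'_1.mpr ⟨by omega, by omega⟩
  by_cases hq0 : s < 60
  · exact entE8p3a_3_0 r hm s (List.mem_range'_1.mpr ⟨by omega, by omega⟩)
  by_cases hq1 : s < 120
  · exact entE8p3a_3_1 r hm s (List.mem_range'_1.mpr ⟨by omega, by omega⟩)
  by_cases hq2 : s < 180
  · exact entE8p3a_3_2 r hm s (List.mem_range'_1.mpr ⟨by omega, by omega⟩)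
  exact entE8p3a_3_3 r hm s (List.mem_range'_1.mpr ⟨by omega, by omega⟩)

set_option maxHeartbeats 0 in
set_option maxRecDepth 100000 in
theorem entE8p3a_4_0 : entryOKLS chevE8 etasE8 parE8 depE8 (List.range' 94 1) (List.range' 0 60) := by
  decide +kernel

set_option maxHeartbeats 0 in
set_option maxRecDepth 100000 in
theorem entE8p3a_4_1 : entryOKLS chevE8 etasE8 parE8 depE8 (List.range' 94 1) (List.range' 60 60) := by
  decide +kernel

set_option maxHeartbeats 0 in
set_option maxRecDepth 100000 in
theorem entE8p3a_4_2 : entryOKLS chevE8 etasE8 parE8 depE8 (List.range' 94 1) (List.range' 120 60) := by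
  decide +kernel

set_option maxHeartbeats 0 in
set_option maxRecDepth 100000 in
theorem entE8p3a_4_3 : entryOKLS chevE8 etasE8 parE8 depE8 (List.range' 94 1) (List.range' 180 60) := by
  decide +kernel

theorem entE8p3a_4 (r : ℕ) (hr : r = 94) (s : ℕ) (hs : s < 240) :
    entryOK chevE8 etasE8 parE8 depE8 r s := by
  have hm : r ∈ List.range' 94 1 := List.mem_range'_1.mpr ⟨by omega, by omega⟩
  by_cases hq0 : s < 60
  · exact entE8p3a_4_0 r hm s (List.mem_range'_1.mpr ⟨by omega, by omega⟩)
  by_cases hq1 : s < 120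
  · exact entE8p3a_4_1 r hm s (List.mem_range'_1.mpr ⟨by omega, by omega⟩)
  by_cases hq2 : s < 180
  · exact entE8p3a_4_2 r hm s (List.mem_range'_1.mpr ⟨by omega, by omega⟩)
  exact entE8p3a_4_3 r hm s (List.mem_range'_1.mpr ⟨by omega, by omega⟩)

set_option maxHeartbeats 0 in
set_option maxRecDepth 100000 in
theorem entE8p3a_5_0 : entryOKLS chevE8 etasE8 parE8 depE8 (List.range' 95 1) (List.range' 0 60) := by
  decide +kernel

set_option maxHeartbeats 0 in
set_option maxRecDepth 100000 in
theorem entE8p3a_5_1 : entryOKLS chevE8 etasE8 parE8 depE8 (List.range' 95 1) (List.range' 60 60) := by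
  decide +kernel

set_option maxHeartbeats 0 in
set_option maxRecDepth 100000 in
theorem entE8p3a_5_2 : entryOKLS chevE8 etasE8 parE8 depE8 (List.range' 95 1) (List.range' 120 60) := by
  decide +kernel

set_option maxHeartbeats 0 in
set_option maxRecDepth 100000 in
theorem entE8p3a_5_3 : entryOKLS chevE8 etasE8 parE8 depE8 (List.range' 95 1) (List.range' 180 60) := by
  decide +kernel

theorem entE8p3a_5 (r : ℕ) (hr : r = 95) (s : ℕ) (hs : s < 240) :
    entryOK chevE8 etasE8 parE8 depE8 r s := by
  have hm : r ∈ List.range' 95 1 := List.mem_range'_1.mpr ⟨by omega, by omega⟩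
  by_cases hq0 : s < 60
  · exact entE8p3a_5_0 r hm s (List.mem_range'_1.mpr ⟨by omega, by omega⟩)
  by_cases hq1 : s < 120
  · exact entE8p3a_5_1 r hm s (List.mem_range'_1.mpr ⟨by omega, by omega⟩)
  by_cases hq2 : s < 180
  · exact entE8p3a_5_2 r hm s (List.mem_range'_1.mpr ⟨by omega, by omega⟩)
  exact entE8p3a_5_3 r hm s (List.mem_range'_1.mpr ⟨by omega, by omega⟩)

set_option maxHeartbeats 0 in
set_option maxRecDepth 100000 in
theorem entE8p3a_6_0 : entryOKLS chevE8 etasE8 parE8 depE8 (List.range' 96 1) (List.range' 0 60) := by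
  decide +kernel

set_option maxHeartbeats 0 in
set_option maxRecDepth 100000 in
theorem entE8p3a_6_1 : entryOKLS chevE8 etasE8 parE8 depE8 (List.range' 96 1) (List.range' 60 60) := by
  decide +kernel

set_option maxHeartbeats 0 in
set_option maxRecDepth 100000 in
theorem entE8p3a_6_2 : entryOKLS chevE8 etasE8 parE8 depE8 (List.range' 96 1) (List.range' 120 60) := by
  decide +kernel

set_option maxHeartbeats 0 in
set_option maxRecDepth 100000 in
theorem entE8p3a_6_3 : entryOKLS chevE8 etasE8 parE8 depE8 (List.range' 96 1) (List.range' 180 60) := by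
  decide +kernel

theorem entE8p3a_6 (r : ℕ) (hr : r = 96) (s : ℕ) (hs : s < 240) :
    entryOK chevE8 etasE8 parE8 depE8 r s := by
  have hm : r ∈ List.range' 96 1 := List.mem_range'_1.mpr ⟨by omega, by omega⟩
  by_cases hq0 : s < 60
  · exact entE8p3a_6_0 r hm s (List.mem_range'_1.mpr ⟨by omega, by omega⟩)
  by_cases hq1 : s < 120
  · exact entE8p3a_6_1 r hm s (List.mem_range'_1.mpr ⟨by omega, by omega⟩)
  by_cases hq2 : s < 180
  · exact entE8p3a_6_2 r hm s (List.mem_range'_1.mpr ⟨by omega, by omega⟩)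
  exact entE8p3a_6_3 r hm s (List.mem_range'_1.mpr ⟨by omega, by omega⟩)

set_option maxHeartbeats 0 in
set_option maxRecDepth 100000 in
theorem entE8p3a_7_0 : entryOKLS chevE8 etasE8 parE8 depE8 (List.range' 97 1) (List.range' 0 60) := by
  decide +kernel

set_option maxHeartbeats 0 in
set_option maxRecDepth 100000 in
theorem entE8p3a_7_1 : entryOKLS chevE8 etasE8 parE8 depE8 (List.range' 97 1) (List.range' 60 60) := by
  decide +kernel

set_option maxHeartbeats 0 in
set_option maxRecDepth 100000 in
theorem entE8p3a_7_2 : entryOKLS chevE8 etasE8 parE8 depE8 (List.range' 97 1) (List.range' 120 60) := by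
  decide +kernel

set_option maxHeartbeats 0 in
set_option maxRecDepth 100000 in
theorem entE8p3a_7_3 : entryOKLS chevE8 etasE8 parE8 depE8 (List.range' 97 1) (List.range' 180 60) := by
  decide +kernel

theorem entE8p3a_7 (r : ℕ) (hr : r = 97) (s : ℕ) (hs : s < 240) :
    entryOK chevE8 etasE8 parE8 depE8 r s := by
  have hm : r ∈ List.range' 97 1 := List.mem_range'_1.mpr ⟨by omega, by omega⟩
  by_cases hq0 : s < 60
  · exact entE8p3a_7_0 r hm s (List.mem_range'_1.mpr ⟨by omega, by omega⟩)
  by_cases hq1 : s < 120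
  · exact entE8p3a_7_1 r hm s (List.mem_range'_1.mpr ⟨by omega, by omega⟩)
  by_cases hq2 : s < 180
  · exact entE8p3a_7_2 r hm s (List.mem_range'_1.mpr ⟨by omega, by omega⟩)
  exact entE8p3a_7_3 r hm s (List.mem_range'_1.mpr ⟨by omega, by omega⟩)

set_option maxHeartbeats 0 in
set_option maxRecDepth 100000 in
theorem entE8p3a_8_0 : entryOKLS chevE8 etasE8 parE8 depE8 (List.range' 98 1) (List.range' 0 60) := by
  decide +kernel

set_option maxHeartbeats 0 in
set_option maxRecDepth 100000 in
theorem entE8p3a_8_1 : entryOKLS chevE8 etasE8 parE8 depE8 (List.range' 98 1) (List.range' 60 60) := by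
  decide +kernel

set_option maxHeartbeats 0 in
set_option maxRecDepth 100000 in
theorem entE8p3a_8_2 : entryOKLS chevE8 etasE8 parE8 depE8 (List.range' 98 1) (List.range' 120 60) := by
  decide +kernel

set_option maxHeartbeats 0 in
set_option maxRecDepth 100000 in
theorem entE8p3a_8_3 : entryOKLS chevE8 etasE8 parE8 depE8 (List.range' 98 1) (List.range' 180 60) := by
  decide +kernel

theorem entE8p3a_8 (r : ℕ) (hr : r = 98) (s : ℕ) (hs : s < 240) :
    entryOK chevE8 etasE8 parE8 depE8 r s := by
  have hm : r ∈ List.range' 98 1 := List.mem_range'_1.mpr ⟨by omega, by omega⟩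
  by_cases hq0 : s < 60
  · exact entE8p3a_8_0 r hm s (List.mem_range'_1.mpr ⟨by omega, by omega⟩)
  by_cases hq1 : s < 120
  · exact entE8p3a_8_1 r hm s (List.mem_range'_1.mpr ⟨by omega, by omega⟩)
  by_cases hq2 : s < 180
  · exact entE8p3a_8_2 r hm s (List.mem_range'_1.mpr ⟨by omega, by omega⟩)
  exact entE8p3a_8_3 r hm s (List.mem_range'_1.mpr ⟨by omega, by omega⟩)

set_option maxHeartbeats 0 in
set_option maxRecDepth 100000 in
theorem entE8p3a_9_0 : entryOKLS chevE8 etasE8 parE8 depE8 (List.range' 99 1) (List.range' 0 60) := by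
  decide +kernel

set_option maxHeartbeats 0 in
set_option maxRecDepth 100000 in
theorem entE8p3a_9_1 : entryOKLS chevE8 etasE8 parE8 depE8 (List.range' 99 1) (List.range' 60 60) := by
  decide +kernel

set_option maxHeartbeats 0 in
set_option maxRecDepth 100000 in
theorem entE8p3a_9_2 : entryOKLS chevE8 etasE8 parE8 depE8 (List.range' 99 1) (List.range' 120 60) := by
  decide +kernel

set_option maxHeartbeats 0 in
set_option maxRecDepth 100000 in
theorem entE8p3a_9_3 : entryOKLS chevE8 etasE8 parE8 depE8 (List.range' 99 1) (List.range' 180 60) := by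
  decide +kernel

theorem entE8p3a_9 (r : ℕ) (hr : r = 99) (s : ℕ) (hs : s < 240) :
    entryOK chevE8 etasE8 parE8 depE8 r s := by
  have hm : r ∈ List.range' 99 1 := List.mem_range'_1.mpr ⟨by omega, by omega⟩
  by_cases hq0 : s < 60
  · exact entE8p3a_9_0 r hm s (List.mem_range'_1.mpr ⟨by omega, by omega⟩)
  by_cases hq1 : s < 120
  · exact entE8p3a_9_1 r hm s (List.mem_range'_1.mpr ⟨by omega, by omega⟩)
  by_cases hq2 : s < 180
  · exact entE8p3a_9_2 r hm s (List.mem_range'_1.mpr ⟨by omega, by omega⟩)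
  exact entE8p3a_9_3 r hm s (List.mem_range'_1.mpr ⟨by omega, by omega⟩)

theorem entE8p3a (r : ℕ) (h1 : 90 ≤ r) (h2 : r < 100) (s : ℕ) (hs : s < 240) :
    entryOK chevE8 etasE8 parE8 depE8 r s := by
  by_cases h91 : r < 91
  · exact entE8p3a_0 r (by omega) s hs
  by_cases h92 : r < 92
  · exact entE8p3a_1 r (by omega) s hs
  by_cases h93 : r < 93
  · exact entE8p3a_2 r (by omega) s hs
  by_cases h94 : r < 94
  · exact entE8p3a_3 r (by omega) s hs
  by_cases h95 : r < 95
  · exact entE8p3a_4 r (by omega) s hs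
  by_cases h96 : r < 96
  · exact entE8p3a_5 r (by omega) s hs
  by_cases h97 : r < 97
  · exact entE8p3a_6 r (by omega) s hs
  by_cases h98 : r < 98
  · exact entE8p3a_7 r (by omega) s hs
  by_cases h99 : r < 99
  · exact entE8p3a_8 r (by omega) s hs
  exact entE8p3a_9 r (by omega) s hs

end Cfsg.Agent.Lib.Helper6.ChevComm
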