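import Mathlib
import Cfsg.Agent.Lib.Helper6.ChevCommOrbit
import Cfsg.Agent.Lib.Helper6.ChevComm.E8Tab
import Cfsg.Agent.Lib.Helper6.ChevComm.Split

/-!
# Commutator formula certificates for E8, part 3c (helper6)

Generated tables and kernel checks.
-/

set_option autoImplicit false

namespace Cfsg.Agent.Lib.Helper6.ChevComm

open Cfsg.Lie Cfsg.Agent.Lib.Helper6.ChevCommOrbit Cfsg.Agent.Lib.Helper6.ChevN

set_option maxHeartbeats 0 in
set_option maxRecDepth 100000 in
theorem entE8p3c_0_0 : entryOKLS chevE8 etasE8 parE8 depE8 (List.range' 110 1) (List.range' 0 60) := by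
  decide +kernel

set_option maxHeartbeats 0 in
set_option maxRecDepth 100000 in
theorem entE8p3c_0_1 : entryOKLS chevE8 etasE8 parE8 depE8 (List.range' 110 1) (List.range' 60 60) := by
  decide +kernel

set_option maxHeartbeats 0 in
set_option maxRecDepth 100000 in
theorem entE8p3c_0_2 : entryOKLS chevE8 etasE8 parE8 depE8 (List.range' 110 1) (List.range' 120 60) := by
  decide +kernel

set_option maxHeartbeats 0 in
set_option maxRecDepth 100000 in
theorem entE8p3c_0_3 : entryOKLS chevE8 etasE8 parE8 depE8 (List.range' 110 1) (List.range' 180 60) := by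
  decide +kernel

theorem entE8p3c_0 (r : ℕ) (hr : r = 110) (s : ℕ) (hs : s < 240) :
    entryOK chevE8 etasE8 parE8 depE8 r s := by
  have hm : r ∈ List.range' 110 1 := List.mem_range'_1.mpr ⟨by omega, by omega⟩
  by_cases hq0 : s < 60
  · exact entE8p3c_0_0 r hm s (List.mem_range'_1.mpr ⟨by omega, by omega⟩)
  by_cases hq1 : s < 120
  · exact entE8p3c_0_1 r hm s (List.mem_range'_1.mpr ⟨by omega, by omega⟩)
  by_cases hq2 : s < 180
  · exact entE8p3c_0_2 r hm s (List.mem_range'_1.mpr ⟨by omega, by omega⟩)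
  exact entE8p3c_0_3 r hm s (List.mem_range'_1.mpr ⟨by omega, by omega⟩)

set_option maxHeartbeats 0 in
set_option maxRecDepth 100000 in
theorem entE8p3c_1_0 : entryOKLS chevE8 etasE8 parE8 depE8 (List.range' 111 1) (List.range' 0 60) := by
  decide +kernel

set_option maxHeartbeats 0 in
set_option maxRecDepth 100000 in
theorem entE8p3c_1_1 : entryOKLS chevE8 etasE8 parE8 depE8 (List.range' 111 1) (List.range' 60 60) := by
  decide +kernel

set_option maxHeartbeats 0 in
set_option maxRecDepth 100000 in
theorem entE8p3c_1_2 : entryOKLS chevE8 etasE8 parE8 depE8 (List.range' 111 1) (List.range' 120 60) := by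
  decide +kernel

set_option maxHeartbeats 0 in
set_option maxRecDepth 100000 in
theorem entE8p3c_1_3 : entryOKLS chevE8 etasE8 parE8 depE8 (List.range' 111 1) (List.range' 180 60) := by
  decide +kernel

theorem entE8p3c_1 (r : ℕ) (hr : r = 111) (s : ℕ) (hs : s < 240) :
    entryOK chevE8 etasE8 parE8 depE8 r s := by
  have hm : r ∈ List.range' 111 1 := List.mem_range'_1.mpr ⟨by omega, by omega⟩
  by_cases hq0 : s < 60
  · exact entE8p3c_1_0 r hm s (List.mem_range'_1.mpr ⟨by omega, by omega⟩)
  by_cases hq1 : s < 120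
  · exact entE8p3c_1_1 r hm s (List.mem_range'_1.mpr ⟨by omega, by omega⟩)
  by_cases hq2 : s < 180
  · exact entE8p3c_1_2 r hm s (List.mem_range'_1.mpr ⟨by omega, by omega⟩)
  exact entE8p3c_1_3 r hm s (List.mem_range'_1.mpr ⟨by omega, by omega⟩)

set_option maxHeartbeats 0 in
set_option maxRecDepth 100000 in
theorem entE8p3c_2_0 : entryOKLS chevE8 etasE8 parE8 depE8 (List.range' 112 1) (List.range' 0 60) := by
  decide +kernel

set_option maxHeartbeats 0 in
set_option maxRecDepth 100000 in
theorem entE8p3c_2_1 : entryOKLS chevE8 etasE8 parE8 depE8 (List.range' 112 1) (List.range' 60 60) := by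
  decide +kernel

set_option maxHeartbeats 0 in
set_option maxRecDepth 100000 in
theorem entE8p3c_2_2 : entryOKLS chevE8 etasE8 parE8 depE8 (List.range' 112 1) (List.range' 120 60) := by
  decide +kernel

set_option maxHeartbeats 0 in
set_option maxRecDepth 100000 in
theorem entE8p3c_2_3 : entryOKLS chevE8 etasE8 parE8 depE8 (List.range' 112 1) (List.range' 180 60) := by
  decide +kernel

theorem entE8p3c_2 (r : ℕ) (hr : r = 112) (s : ℕ) (hs : s < 240) :
    entryOK chevE8 etasE8 parE8 depE8 r s := by
  have hm : r ∈ List.range' 112 1 := List.mem_range'_1.mpr ⟨by omega, by omega⟩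
  by_cases hq0 : s < 60
  · exact entE8p3c_2_0 r hm s (List.mem_range'_1.mpr ⟨by omega, by omega⟩)
  by_cases hq1 : s < 120
  · exact entE8p3c_2_1 r hm s (List.mem_range'_1.mpr ⟨by omega, by omega⟩)
  by_cases hq2 : s < 180
  · exact entE8p3c_2_2 r hm s (List.mem_range'_1.mpr ⟨by omega, by omega⟩)
  exact entE8p3c_2_3 r hm s (List.mem_range'_1.mpr ⟨by omega, by omega⟩)

set_option maxHeartbeats 0 in
set_option maxRecDepth 100000 in
theorem entE8p3c_3_0 : entryOKLS chevE8 etasE8 parE8 depE8 (List.range' 113 1) (List.range' 0 60) := by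
  decide +kernel

set_option maxHeartbeats 0 in
set_option maxRecDepth 100000 in
theorem entE8p3c_3_1 : entryOKLS chevE8 etasE8 parE8 depE8 (List.range' 113 1) (List.range' 60 60) := by
  decide +kernel

set_option maxHeartbeats 0 in
set_option maxRecDepth 100000 in
theorem entE8p3c_3_2 : entryOKLS chevE8 etasE8 parE8 depE8 (List.range' 113 1) (List.range' 120 60) := by
  decide +kernel

set_option maxHeartbeats 0 in
set_option maxRecDepth 100000 in
theorem entE8p3c_3_3 : entryOKLS chevE8 etasE8 parE8 depE8 (List.range' 113 1) (List.range' 180 60) := by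
  decide +kernel

theorem entE8p3c_3 (r : ℕ) (hr : r = 113) (s : ℕ) (hs : s < 240) :
    entryOK chevE8 etasE8 parE8 depE8 r s := by
  have hm : r ∈ List.range' 113 1 := List.mem_range'_1.mpr ⟨by omega, by omega⟩
  by_cases hq0 : s < 60
  · exact entE8p3c_3_0 r hm s (List.mem_range'_1.mpr ⟨by omega, by omega⟩)
  by_cases hq1 : s < 120
  · exact entE8p3c_3_1 r hm s (List.mem_range'_1.mpr ⟨by omega, by omega⟩)
  by_cases hq2 : s < 180
  · exact entE8p3c_3_2 r hm s (List.mem_range'_1.mpr ⟨by omega, by omega⟩)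
  exact entE8p3c_3_3 r hm s (List.mem_range'_1.mpr ⟨by omega, by omega⟩)

set_option maxHeartbeats 0 in
set_option maxRecDepth 100000 in
theorem entE8p3c_4_0 : entryOKLS chevE8 etasE8 parE8 depE8 (List.range' 114 1) (List.range' 0 60) := by
  decide +kernel

set_option maxHeartbeats 0 in
set_option maxRecDepth 100000 in
theorem entE8p3c_4_1 : entryOKLS chevE8 etasE8 parE8 depE8 (List.range' 114 1) (List.range' 60 60) := by
  decide +kernel

set_option maxHeartbeats 0 in
set_option maxRecDepth 100000 in
theorem entE8p3c_4_2 : entryOKLS chevE8 etasE8 parE8 depE8 (List.range' 114 1) (List.range' 120 60) := by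
  decide +kernel

set_option maxHeartbeats 0 in
set_option maxRecDepth 100000 in
theorem entE8p3c_4_3 : entryOKLS chevE8 etasE8 parE8 depE8 (List.range' 114 1) (List.range' 180 60) := by
  decide +kernel

theorem entE8p3c_4 (r : ℕ) (hr : r = 114) (s : ℕ) (hs : s < 240) :
    entryOK chevE8 etasE8 parE8 depE8 r s := by
  have hm : r ∈ List.range' 114 1 := List.mem_range'_1.mpr ⟨by omega, by omega⟩
  by_cases hq0 : s < 60
  · exact entE8p3c_4_0 r hm s (List.mem_range'_1.mpr ⟨by omega, by omega⟩)
  by_cases hq1 : s < 120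
  · exact entE8p3c_4_1 r hm s (List.mem_range'_1.mpr ⟨by omega, by omega⟩)
  by_cases hq2 : s < 180
  · exact entE8p3c_4_2 r hm s (List.mem_range'_1.mpr ⟨by omega, by omega⟩)
  exact entE8p3c_4_3 r hm s (List.mem_range'_1.mpr ⟨by omega, by omega⟩)

set_option maxHeartbeats 0 in
set_option maxRecDepth 100000 in
theorem entE8p3c_5_0 : entryOKLS chevE8 etasE8 parE8 depE8 (List.range' 115 1) (List.range' 0 60) := by
  decide +kernel

set_option maxHeartbeats 0 in
set_option maxRecDepth 100000 in
theorem entE8p3c_5_1 : entryOKLS chevE8 etasE8 parE8 depE8 (List.range' 115 1) (List.range' 60 60) := by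
  decide +kernel

set_option maxHeartbeats 0 in
set_option maxRecDepth 100000 in
theorem entE8p3c_5_2 : entryOKLS chevE8 etasE8 parE8 depE8 (List.range' 115 1) (List.range' 120 60) := by
  decide +kernel

set_option maxHeartbeats 0 in
set_option maxRecDepth 100000 in
theorem entE8p3c_5_3 : entryOKLS chevE8 etasE8 parE8 depE8 (List.range' 115 1) (List.range' 180 60) := by
  decide +kernel

theorem entE8p3c_5 (r : ℕ) (hr : r = 115) (s : ℕ) (hs : s < 240) :
    entryOK chevE8 etasE8 parE8 depE8 r s := by
  have hm : r ∈ List.range' 115 1 := List.mem_range'_1.mpr ⟨by omega, by omega⟩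
  by_cases hq0 : s < 60
  · exact entE8p3c_5_0 r hm s (List.mem_range'_1.mpr ⟨by omega, by omega⟩)
  by_cases hq1 : s < 120
  · exact entE8p3c_5_1 r hm s (List.mem_range'_1.mpr ⟨by omega, by omega⟩)
  by_cases hq2 : s < 180
  · exact entE8p3c_5_2 r hm s (List.mem_range'_1.mpr ⟨by omega, by omega⟩)
  exact entE8p3c_5_3 r hm s (List.mem_range'_1.mpr ⟨by omega, by omega⟩)

set_option maxHeartbeats 0 in
set_option maxRecDepth 100000 in
theorem entE8p3c_6_0 : entryOKLS chevE8 etasE8 parE8 depE8 (List.range' 116 1) (List.range' 0 60) := by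
  decide +kernel

set_option maxHeartbeats 0 in
set_option maxRecDepth 100000 in
theorem entE8p3c_6_1 : entryOKLS chevE8 etasE8 parE8 depE8 (List.range' 116 1) (List.range' 60 60) := by
  decide +kernel

set_option maxHeartbeats 0 in
set_option maxRecDepth 100000 in
theorem entE8p3c_6_2 : entryOKLS chevE8 etasE8 parE8 depE8 (List.range' 116 1) (List.range' 120 60) := by
  decide +kernel

set_option maxHeartbeats 0 in
set_option maxRecDepth 100000 in
theorem entE8p3c_6_3 : entryOKLS chevE8 etasE8 parE8 depE8 (List.range' 116 1) (List.range' 180 60) := by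
  decide +kernel

theorem entE8p3c_6 (r : ℕ) (hr : r = 116) (s : ℕ) (hs : s < 240) :
    entryOK chevE8 etasE8 parE8 depE8 r s := by
  have hm : r ∈ List.range' 116 1 := List.mem_range'_1.mpr ⟨by omega, by omega⟩
  by_cases hq0 : s < 60
  · exact entE8p3c_6_0 r hm s (List.mem_range'_1.mpr ⟨by omega, by omega⟩)
  by_cases hq1 : s < 120
  · exact entE8p3c_6_1 r hm s (List.mem_range'_1.mpr ⟨by omega, by omega⟩)
  by_cases hq2 : s < 180
  · exact entE8p3c_6_2 r hm s (List.mem_range'_1.mpr ⟨by omega, by omega⟩)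
  exact entE8p3c_6_3 r hm s (List.mem_range'_1.mpr ⟨by omega, by omega⟩)

set_option maxHeartbeats 0 in
set_option maxRecDepth 100000 in
theorem entE8p3c_7_0 : entryOKLS chevE8 etasE8 parE8 depE8 (List.range' 117 1) (List.range' 0 60) := by
  decide +kernel

set_option maxHeartbeats 0 in
set_option maxRecDepth 100000 in
theorem entE8p3c_7_1 : entryOKLS chevE8 etasE8 parE8 depE8 (List.range' 117 1) (List.range' 60 60) := by
  decide +kernel

set_option maxHeartbeats 0 in
set_option maxRecDepth 100000 in
theorem entE8p3c_7_2 : entryOKLS chevE8 etasE8 parE8 depE8 (List.range' 117 1) (List.range' 120 60) := by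
  decide +kernel

set_option maxHeartbeats 0 in
set_option maxRecDepth 100000 in
theorem entE8p3c_7_3 : entryOKLS chevE8 etasE8 parE8 depE8 (List.range' 117 1) (List.range' 180 60) := by
  decide +kernel

theorem entE8p3c_7 (r : ℕ) (hr : r = 117) (s : ℕ) (hs : s < 240) :
    entryOK chevE8 etasE8 parE8 depE8 r s := by
  have hm : r ∈ List.range' 117 1 := List.mem_range'_1.mpr ⟨by omega, by omega⟩
  by_cases hq0 : s < 60
  · exact entE8p3c_7_0 r hm s (List.mem_range'_1.mpr ⟨by omega, by omega⟩)
  by_cases hq1 : s < 120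
  · exact entE8p3c_7_1 r hm s (List.mem_range'_1.mpr ⟨by omega, by omega⟩)
  by_cases hq2 : s < 180
  · exact entE8p3c_7_2 r hm s (List.mem_range'_1.mpr ⟨by omega, by omega⟩)
  exact entE8p3c_7_3 r hm s (List.mem_range'_1.mpr ⟨by omega, by omega⟩)

set_option maxHeartbeats 0 in
set_option maxRecDepth 100000 in
theorem entE8p3c_8_0 : entryOKLS chevE8 etasE8 parE8 depE8 (List.range' 118 1) (List.range' 0 60) := by
  decide +kernel

set_option maxHeartbeats 0 in
set_option maxRecDepth 100000 in
theorem entE8p3c_8_1 : entryOKLS chevE8 etasE8 parE8 depE8 (List.range' 118 1) (List.range' 60 60) := by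
  decide +kernel

set_option maxHeartbeats 0 in
set_option maxRecDepth 100000 in
theorem entE8p3c_8_2 : entryOKLS chevE8 etasE8 parE8 depE8 (List.range' 118 1) (List.range' 120 60) := by
  decide +kernel

set_option maxHeartbeats 0 in
set_option maxRecDepth 100000 in
theorem entE8p3c_8_3 : entryOKLS chevE8 etasE8 parE8 depE8 (List.range' 118 1) (List.range' 180 60) := by
  decide +kernel

theorem entE8p3c_8 (r : ℕ) (hr : r = 118) (s : ℕ) (hs : s < 240) :
    entryOK chevE8 etasE8 parE8 depE8 r s := by
  have hm : r ∈ List.range' 118 1 := List.mem_range'_1.mpr ⟨by omega, by omega⟩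
  by_cases hq0 : s < 60
  · exact entE8p3c_8_0 r hm s (List.mem_range'_1.mpr ⟨by omega, by omega⟩)
  by_cases hq1 : s < 120
  · exact entE8p3c_8_1 r hm s (List.mem_range'_1.mpr ⟨by omega, by omega⟩)
  by_cases hq2 : s < 180
  · exact entE8p3c_8_2 r hm s (List.mem_range'_1.mpr ⟨by omega, by omega⟩)
  exact entE8p3c_8_3 r hm s (List.mem_range'_1.mpr ⟨by omega, by omega⟩)

set_option maxHeartbeats 0 in
set_option maxRecDepth 100000 in
theorem entE8p3c_9_0 : entryOKLS chevE8 etasE8 parE8 depE8 (List.range' 119 1) (List.range' 0 60) := by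
  decide +kernel

set_option maxHeartbeats 0 in
set_option maxRecDepth 100000 in
theorem entE8p3c_9_1 : entryOKLS chevE8 etasE8 parE8 depE8 (List.range' 119 1) (List.range' 60 60) := by
  decide +kernel

set_option maxHeartbeats 0 in
set_option maxRecDepth 100000 in
theorem entE8p3c_9_2 : entryOKLS chevE8 etasE8 parE8 depE8 (List.range' 119 1) (List.range' 120 60) := by
  decide +kernel

set_option maxHeartbeats 0 in
set_option maxRecDepth 100000 in
theorem entE8p3c_9_3 : entryOKLS chevE8 etasE8 parE8 depE8 (List.range' 119 1) (List.range' 180 60) := by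
  decide +kernel

theorem entE8p3c_9 (r : ℕ) (hr : r = 119) (s : ℕ) (hs : s < 240) :
    entryOK chevE8 etasE8 parE8 depE8 r s := by
  have hm : r ∈ List.range' 119 1 := List.mem_range'_1.mpr ⟨by omega, by omega⟩
  by_cases hq0 : s < 60
  · exact entE8p3c_9_0 r hm s (List.mem_range'_1.mpr ⟨by omega, by omega⟩)
  by_cases hq1 : s < 120
  · exact entE8p3c_9_1 r hm s (List.mem_range'_1.mpr ⟨by omega, by omega⟩)
  by_cases hq2 : s < 180
  · exact entE8p3c_9_2 r hm s (List.mem_range'_1.mpr ⟨by omega, by omega⟩)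
  exact entE8p3c_9_3 r hm s (List.mem_range'_1.mpr ⟨by omega, by omega⟩)

theorem entE8p3c (r : ℕ) (h1 : 110 ≤ r) (h2 : r < 120) (s : ℕ) (hs : s < 240) :
    entryOK chevE8 etasE8 parE8 depE8 r s := by
  by_cases h111 : r < 111
  · exact entE8p3c_0 r (by omega) s hs
  by_cases h112 : r < 112
  · exact entE8p3c_1 r (by omega) s hs
  by_cases h113 : r < 113
  · exact entE8p3c_2 r (by omega) s hs
  by_cases h114 : r < 114
  · exact entE8p3c_3 r (by omega) s hs
  by_cases h115 : r < 115
  · exact entE8p3c_4 r (by omega) s hs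
  by_cases h116 : r < 116
  · exact entE8p3c_5 r (by omega) s hs
  by_cases h117 : r < 117
  · exact entE8p3c_6 r (by omega) s hs
  by_cases h118 : r < 118
  · exact entE8p3c_7 r (by omega) s hs
  by_cases h119 : r < 119
  · exact entE8p3c_8 r (by omega) s hs
  exact entE8p3c_9 r (by omega) s hs

end Cfsg.Agent.Lib.Helper6.ChevComm
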