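import Mathlib
import Cfsg.Agent.Lib.Helper6.ChevCommOrbit
import Cfsg.Agent.Lib.Helper6.ChevComm.E8Tab
import Cfsg.Agent.Lib.Helper6.ChevComm.E8_3a
import Cfsg.Agent.Lib.Helper6.ChevComm.E8_3b
import Cfsg.Agent.Lib.Helper6.ChevComm.E8_3c

/-!
# Commutator formula certificates for E8, part 3 (helper6)

Generated tables and kernel checks.
-/

set_option autoImplicit false

namespace Cfsg.Agent.Lib.Helper6.ChevComm

open Cfsg.Lie Cfsg.Agent.Lib.Helper6.ChevCommOrbit Cfsg.Agent.Lib.Helper6.ChevN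

theorem entE8p3 (r : ℕ) (h1 : 90 ≤ r) (h2 : r < 120) (s : ℕ) (hs : s < 240) :
    entryOK chevE8 etasE8 parE8 depE8 r s := by
  by_cases ha : r < 100
  · exact entE8p3a r h1 ha s hs
  by_cases hb : r < 110
  · exact entE8p3b r (by omega) hb s hs
  exact entE8p3c r (by omega) h2 s hs

end Cfsg.Agent.Lib.Helper6.ChevComm
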