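import Mathlib
import Cfsg.Agent.Lib.Helper6.ChevCommOrbit
import Cfsg.Agent.Lib.Helper6.ChevComm.E8Tab
import Cfsg.Agent.Lib.Helper6.ChevComm.Split

/-!
# Commutator formula certificates for E8, part 5b (helper6)

Generated tables and kernel checks.
-/

set_option autoImplicit false

namespace Cfsg.Agent.Lib.Helper6.ChevComm

open Cfsg.Lie Cfsg.Agent.Lib.Helper6.ChevCommOrbit Cfsg.Agent.Lib.Helper6.ChevN

set_option maxHeartbeats 0 in
set_option maxRecDepth 100000 in
theorem entE8p5b_0_0 : entryOKLS chevE8 etasE8 parE8 depE8 (List.range' 160 1) (List.range' 0 60) := by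
  decide +kernel

set_option maxHeartbeats 0 in
set_option maxRecDepth 100000 in
theorem entE8p5b_0_1 : entryOKLS chevE8 etasE8 parE8 depE8 (List.range' 160 1) (List.range' 60 60) := by
  decide +kernel

set_option maxHeartbeats 0 in
set_option maxRecDepth 100000 in
theorem entE8p5b_0_2 : entryOKLS chevE8 etasE8 parE8 depE8 (List.range' 160 1) (List.range' 120 60) := by
  decide +kernel

set_option maxHeartbeats 0 in
set_option maxRecDepth 100000 in
theorem entE8p5b_0_3 : entryOKLS chevE8 etasE8 parE8 depE8 (List.range' 160 1) (List.range' 180 60) := by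
  decide +kernel

theorem entE8p5b_0 (r : ℕ) (hr : r = 160) (s : ℕ) (hs : s < 240) :
    entryOK chevE8 etasE8 parE8 depE8 r s := by
  have hm : r ∈ List.range' 160 1 := List.mem_range'_1.mpr ⟨by omega, by omega⟩
  by_cases hq0 : s < 60
  · exact entE8p5b_0_0 r hm s (List.mem_range'_1.mpr ⟨by omega, by omega⟩)
  by_cases hq1 : s < 120
  · exact entE8p5b_0_1 r hm s (List.mem_range'_1.mpr ⟨by omega, by omega⟩)
  by_cases hq2 : s < 180
  · exact entE8p5b_0_2 r hm s (List.mem_range'_1.mpr ⟨by omega, by omega⟩)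
  exact entE8p5b_0_3 r hm s (List.mem_range'_1.mpr ⟨by omega, by omega⟩)

set_option maxHeartbeats 0 in
set_option maxRecDepth 100000 in
theorem entE8p5b_1_0 : entryOKLS chevE8 etasE8 parE8 depE8 (List.range' 161 1) (List.range' 0 60) := by
  decide +kernel

set_option maxHeartbeats 0 in
set_option maxRecDepth 100000 in
theorem entE8p5b_1_1 : entryOKLS chevE8 etasE8 parE8 depE8 (List.range' 161 1) (List.range' 60 60) := by
  decide +kernel

set_option maxHeartbeats 0 in
set_option maxRecDepth 100000 in
theorem entE8p5b_1_2 : entryOKLS chevE8 etasE8 parE8 depE8 (List.range' 161 1) (List.range' 120 60) := by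
  decide +kernel

set_option maxHeartbeats 0 in
set_option maxRecDepth 100000 in
theorem entE8p5b_1_3 : entryOKLS chevE8 etasE8 parE8 depE8 (List.range' 161 1) (List.range' 180 60) := by
  decide +kernel

theorem entE8p5b_1 (r : ℕ) (hr : r = 161) (s : ℕ) (hs : s < 240) :
    entryOK chevE8 etasE8 parE8 depE8 r s := by
  have hm : r ∈ List.range' 161 1 := List.mem_range'_1.mpr ⟨by omega, by omega⟩
  by_cases hq0 : s < 60
  · exact entE8p5b_1_0 r hm s (List.mem_range'_1.mpr ⟨by omega, by omega⟩)
  by_cases hq1 : s < 120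
  · exact entE8p5b_1_1 r hm s (List.mem_range'_1.mpr ⟨by omega, by omega⟩)
  by_cases hq2 : s < 180
  · exact entE8p5b_1_2 r hm s (List.mem_range'_1.mpr ⟨by omega, by omega⟩)
  exact entE8p5b_1_3 r hm s (List.mem_range'_1.mpr ⟨by omega, by omega⟩)

set_option maxHeartbeats 0 in
set_option maxRecDepth 100000 in
theorem entE8p5b_2_0 : entryOKLS chevE8 etasE8 parE8 depE8 (List.range' 162 1) (List.range' 0 60) := by
  decide +kernel

set_option maxHeartbeats 0 in
set_option maxRecDepth 100000 in
theorem entE8p5b_2_1 : entryOKLS chevE8 etasE8 parE8 depE8 (List.range' 162 1) (List.range' 60 60) := by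
  decide +kernel

set_option maxHeartbeats 0 in
set_option maxRecDepth 100000 in
theorem entE8p5b_2_2 : entryOKLS chevE8 etasE8 parE8 depE8 (List.range' 162 1) (List.range' 120 60) := by
  decide +kernel

set_option maxHeartbeats 0 in
set_option maxRecDepth 100000 in
theorem entE8p5b_2_3 : entryOKLS chevE8 etasE8 parE8 depE8 (List.range' 162 1) (List.range' 180 60) := by
  decide +kernel

theorem entE8p5b_2 (r : ℕ) (hr : r = 162) (s : ℕ) (hs : s < 240) :
    entryOK chevE8 etasE8 parE8 depE8 r s := by
  have hm : r ∈ List.range' 162 1 := List.mem_range'_1.mpr ⟨by omega, by omega⟩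
  by_cases hq0 : s < 60
  · exact entE8p5b_2_0 r hm s (List.mem_range'_1.mpr ⟨by omega, by omega⟩)
  by_cases hq1 : s < 120
  · exact entE8p5b_2_1 r hm s (List.mem_range'_1.mpr ⟨by omega, by omega⟩)
  by_cases hq2 : s < 180
  · exact entE8p5b_2_2 r hm s (List.mem_range'_1.mpr ⟨by omega, by omega⟩)
  exact entE8p5b_2_3 r hm s (List.mem_range'_1.mpr ⟨by omega, by omega⟩)

set_option maxHeartbeats 0 in
set_option maxRecDepth 100000 in
theorem entE8p5b_3_0 : entryOKLS chevE8 etasE8 parE8 depE8 (List.range' 163 1) (List.range' 0 60) := by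
  decide +kernel

set_option maxHeartbeats 0 in
set_option maxRecDepth 100000 in
theorem entE8p5b_3_1 : entryOKLS chevE8 etasE8 parE8 depE8 (List.range' 163 1) (List.range' 60 60) := by
  decide +kernel

set_option maxHeartbeats 0 in
set_option maxRecDepth 100000 in
theorem entE8p5b_3_2 : entryOKLS chevE8 etasE8 parE8 depE8 (List.range' 163 1) (List.range' 120 60) := by
  decide +kernel

set_option maxHeartbeats 0 in
set_option maxRecDepth 100000 in
theorem entE8p5b_3_3 : entryOKLS chevE8 etasE8 parE8 depE8 (List.range' 163 1) (List.range' 180 60) := by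
  decide +kernel

theorem entE8p5b_3 (r : ℕ) (hr : r = 163) (s : ℕ) (hs : s < 240) :
    entryOK chevE8 etasE8 parE8 depE8 r s := by
  have hm : r ∈ List.range' 163 1 := List.mem_range'_1.mpr ⟨by omega, by omega⟩
  by_cases hq0 : s < 60
  · exact entE8p5b_3_0 r hm s (List.mem_range'_1.mpr ⟨by omega, by omega⟩)
  by_cases hq1 : s < 120
  · exact entE8p5b_3_1 r hm s (List.mem_range'_1.mpr ⟨by omega, by omega⟩)
  by_cases hq2 : s < 180
  · exact entE8p5b_3_2 r hm s (List.mem_range'_1.mpr ⟨by omega, by omega⟩)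
  exact entE8p5b_3_3 r hm s (List.mem_range'_1.mpr ⟨by omega, by omega⟩)

set_option maxHeartbeats 0 in
set_option maxRecDepth 100000 in
theorem entE8p5b_4_0 : entryOKLS chevE8 etasE8 parE8 depE8 (List.range' 164 1) (List.range' 0 60) := by
  decide +kernel

set_option maxHeartbeats 0 in
set_option maxRecDepth 100000 in
theorem entE8p5b_4_1 : entryOKLS chevE8 etasE8 parE8 depE8 (List.range' 164 1) (List.range' 60 60) := by
  decide +kernel

set_option maxHeartbeats 0 in
set_option maxRecDepth 100000 in
theorem entE8p5b_4_2 : entryOKLS chevE8 etasE8 parE8 depE8 (List.range' 164 1) (List.range' 120 60) := by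
  decide +kernel

set_option maxHeartbeats 0 in
set_option maxRecDepth 100000 in
theorem entE8p5b_4_3 : entryOKLS chevE8 etasE8 parE8 depE8 (List.range' 164 1) (List.range' 180 60) := by
  decide +kernel

theorem entE8p5b_4 (r : ℕ) (hr : r = 164) (s : ℕ) (hs : s < 240) :
    entryOK chevE8 etasE8 parE8 depE8 r s := by
  have hm : r ∈ List.range' 164 1 := List.mem_range'_1.mpr ⟨by omega, by omega⟩
  by_cases hq0 : s < 60
  · exact entE8p5b_4_0 r hm s (List.mem_range'_1.mpr ⟨by omega, by omega⟩)
  by_cases hq1 : s < 120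
  · exact entE8p5b_4_1 r hm s (List.mem_range'_1.mpr ⟨by omega, by omega⟩)
  by_cases hq2 : s < 180
  · exact entE8p5b_4_2 r hm s (List.mem_range'_1.mpr ⟨by omega, by omega⟩)
  exact entE8p5b_4_3 r hm s (List.mem_range'_1.mpr ⟨by omega, by omega⟩)

set_option maxHeartbeats 0 in
set_option maxRecDepth 100000 in
theorem entE8p5b_5_0 : entryOKLS chevE8 etasE8 parE8 depE8 (List.range' 165 1) (List.range' 0 60) := by
  decide +kernel

set_option maxHeartbeats 0 in
set_option maxRecDepth 100000 in
theorem entE8p5b_5_1 : entryOKLS chevE8 etasE8 parE8 depE8 (List.range' 165 1) (List.range' 60 60) := by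
  decide +kernel

set_option maxHeartbeats 0 in
set_option maxRecDepth 100000 in
theorem entE8p5b_5_2 : entryOKLS chevE8 etasE8 parE8 depE8 (List.range' 165 1) (List.range' 120 60) := by
  decide +kernel

set_option maxHeartbeats 0 in
set_option maxRecDepth 100000 in
theorem entE8p5b_5_3 : entryOKLS chevE8 etasE8 parE8 depE8 (List.range' 165 1) (List.range' 180 60) := by
  decide +kernel

theorem entE8p5b_5 (r : ℕ) (hr : r = 165) (s : ℕ) (hs : s < 240) :
    entryOK chevE8 etasE8 parE8 depE8 r s := by
  have hm : r ∈ List.range' 165 1 := List.mem_range'_1.mpr ⟨by omega, by omega⟩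
  by_cases hq0 : s < 60
  · exact entE8p5b_5_0 r hm s (List.mem_range'_1.mpr ⟨by omega, by omega⟩)
  by_cases hq1 : s < 120
  · exact entE8p5b_5_1 r hm s (List.mem_range'_1.mpr ⟨by omega, by omega⟩)
  by_cases hq2 : s < 180
  · exact entE8p5b_5_2 r hm s (List.mem_range'_1.mpr ⟨by omega, by omega⟩)
  exact entE8p5b_5_3 r hm s (List.mem_range'_1.mpr ⟨by omega, by omega⟩)

set_option maxHeartbeats 0 in
set_option maxRecDepth 100000 in
theorem entE8p5b_6_0 : entryOKLS chevE8 etasE8 parE8 depE8 (List.range' 166 1) (List.range' 0 60) := by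
  decide +kernel

set_option maxHeartbeats 0 in
set_option maxRecDepth 100000 in
theorem entE8p5b_6_1 : entryOKLS chevE8 etasE8 parE8 depE8 (List.range' 166 1) (List.range' 60 60) := by
  decide +kernel

set_option maxHeartbeats 0 in
set_option maxRecDepth 100000 in
theorem entE8p5b_6_2 : entryOKLS chevE8 etasE8 parE8 depE8 (List.range' 166 1) (List.range' 120 60) := by
  decide +kernel

set_option maxHeartbeats 0 in
set_option maxRecDepth 100000 in
theorem entE8p5b_6_3 : entryOKLS chevE8 etasE8 parE8 depE8 (List.range' 166 1) (List.range' 180 60) := by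
  decide +kernel

theorem entE8p5b_6 (r : ℕ) (hr : r = 166) (s : ℕ) (hs : s < 240) :
    entryOK chevE8 etasE8 parE8 depE8 r s := by
  have hm : r ∈ List.range' 166 1 := List.mem_range'_1.mpr ⟨by omega, by omega⟩
  by_cases hq0 : s < 60
  · exact entE8p5b_6_0 r hm s (List.mem_range'_1.mpr ⟨by omega, by omega⟩)
  by_cases hq1 : s < 120
  · exact entE8p5b_6_1 r hm s (List.mem_range'_1.mpr ⟨by omega, by omega⟩)
  by_cases hq2 : s < 180
  · exact entE8p5b_6_2 r hm s (List.mem_range'_1.mpr ⟨by omega, by omega⟩)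
  exact entE8p5b_6_3 r hm s (List.mem_range'_1.mpr ⟨by omega, by omega⟩)

set_option maxHeartbeats 0 in
set_option maxRecDepth 100000 in
theorem entE8p5b_7_0 : entryOKLS chevE8 etasE8 parE8 depE8 (List.range' 167 1) (List.range' 0 60) := by
  decide +kernel

set_option maxHeartbeats 0 in
set_option maxRecDepth 100000 in
theorem entE8p5b_7_1 : entryOKLS chevE8 etasE8 parE8 depE8 (List.range' 167 1) (List.range' 60 60) := by
  decide +kernel

set_option maxHeartbeats 0 in
set_option maxRecDepth 100000 in
theorem entE8p5b_7_2 : entryOKLS chevE8 etasE8 parE8 depE8 (List.range' 167 1) (List.range' 120 60) := by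
  decide +kernel

set_option maxHeartbeats 0 in
set_option maxRecDepth 100000 in
theorem entE8p5b_7_3 : entryOKLS chevE8 etasE8 parE8 depE8 (List.range' 167 1) (List.range' 180 60) := by
  decide +kernel

theorem entE8p5b_7 (r : ℕ) (hr : r = 167) (s : ℕ) (hs : s < 240) :
    entryOK chevE8 etasE8 parE8 depE8 r s := by
  have hm : r ∈ List.range' 167 1 := List.mem_range'_1.mpr ⟨by omega, by omega⟩
  by_cases hq0 : s < 60
  · exact entE8p5b_7_0 r hm s (List.mem_range'_1.mpr ⟨by omega, by omega⟩)
  by_cases hq1 : s < 120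
  · exact entE8p5b_7_1 r hm s (List.mem_range'_1.mpr ⟨by omega, by omega⟩)
  by_cases hq2 : s < 180
  · exact entE8p5b_7_2 r hm s (List.mem_range'_1.mpr ⟨by omega, by omega⟩)
  exact entE8p5b_7_3 r hm s (List.mem_range'_1.mpr ⟨by omega, by omega⟩)

set_option maxHeartbeats 0 in
set_option maxRecDepth 100000 in
theorem entE8p5b_8_0 : entryOKLS chevE8 etasE8 parE8 depE8 (List.range' 168 1) (List.range' 0 60) := by
  decide +kernel

set_option maxHeartbeats 0 in
set_option maxRecDepth 100000 in
theorem entE8p5b_8_1 : entryOKLS chevE8 etasE8 parE8 depE8 (List.range' 168 1) (List.range' 60 60) := by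
  decide +kernel

set_option maxHeartbeats 0 in
set_option maxRecDepth 100000 in
theorem entE8p5b_8_2 : entryOKLS chevE8 etasE8 parE8 depE8 (List.range' 168 1) (List.range' 120 60) := by
  decide +kernel

set_option maxHeartbeats 0 in
set_option maxRecDepth 100000 in
theorem entE8p5b_8_3 : entryOKLS chevE8 etasE8 parE8 depE8 (List.range' 168 1) (List.range' 180 60) := by
  decide +kernel

theorem entE8p5b_8 (r : ℕ) (hr : r = 168) (s : ℕ) (hs : s < 240) :
    entryOK chevE8 etasE8 parE8 depE8 r s := by
  have hm : r ∈ List.range' 168 1 := List.mem_range'_1.mpr ⟨by omega, by omega⟩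
  by_cases hq0 : s < 60
  · exact entE8p5b_8_0 r hm s (List.mem_range'_1.mpr ⟨by omega, by omega⟩)
  by_cases hq1 : s < 120
  · exact entE8p5b_8_1 r hm s (List.mem_range'_1.mpr ⟨by omega, by omega⟩)
  by_cases hq2 : s < 180
  · exact entE8p5b_8_2 r hm s (List.mem_range'_1.mpr ⟨by omega, by omega⟩)
  exact entE8p5b_8_3 r hm s (List.mem_range'_1.mpr ⟨by omega, by omega⟩)

set_option maxHeartbeats 0 in
set_option maxRecDepth 100000 in
theorem entE8p5b_9_0 : entryOKLS chevE8 etasE8 parE8 depE8 (List.range' 169 1) (List.range' 0 60) := by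
  decide +kernel

set_option maxHeartbeats 0 in
set_option maxRecDepth 100000 in
theorem entE8p5b_9_1 : entryOKLS chevE8 etasE8 parE8 depE8 (List.range' 169 1) (List.range' 60 60) := by
  decide +kernel

set_option maxHeartbeats 0 in
set_option maxRecDepth 100000 in
theorem entE8p5b_9_2 : entryOKLS chevE8 etasE8 parE8 depE8 (List.range' 169 1) (List.range' 120 60) := by
  decide +kernel

set_option maxHeartbeats 0 in
set_option maxRecDepth 100000 in
theorem entE8p5b_9_3 : entryOKLS chevE8 etasE8 parE8 depE8 (List.range' 169 1) (List.range' 180 60) := by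
  decide +kernel

theorem entE8p5b_9 (r : ℕ) (hr : r = 169) (s : ℕ) (hs : s < 240) :
    entryOK chevE8 etasE8 parE8 depE8 r s := by
  have hm : r ∈ List.range' 169 1 := List.mem_range'_1.mpr ⟨by omega, by omega⟩
  by_cases hq0 : s < 60
  · exact entE8p5b_9_0 r hm s (List.mem_range'_1.mpr ⟨by omega, by omega⟩)
  by_cases hq1 : s < 120
  · exact entE8p5b_9_1 r hm s (List.mem_range'_1.mpr ⟨by omega, by omega⟩)
  by_cases hq2 : s < 180
  · exact entE8p5b_9_2 r hm s (List.mem_range'_1.mpr ⟨by omega, by omega⟩)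
  exact entE8p5b_9_3 r hm s (List.mem_range'_1.mpr ⟨by omega, by omega⟩)

theorem entE8p5b (r : ℕ) (h1 : 160 ≤ r) (h2 : r < 170) (s : ℕ) (hs : s < 240) :
    entryOK chevE8 etasE8 parE8 depE8 r s := by
  by_cases h161 : r < 161
  · exact entE8p5b_0 r (by omega) s hs
  by_cases h162 : r < 162
  · exact entE8p5b_1 r (by omega) s hs
  by_cases h163 : r < 163
  · exact entE8p5b_2 r (by omega) s hs
  by_cases h164 : r < 164
  · exact entE8p5b_3 r (by omega) s hs
  by_cases h165 : r < 165
  · exact entE8p5b_4 r (by omega) s hs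
  by_cases h166 : r < 166
  · exact entE8p5b_5 r (by omega) s hs
  by_cases h167 : r < 167
  · exact entE8p5b_6 r (by omega) s hs
  by_cases h168 : r < 168
  · exact entE8p5b_7 r (by omega) s hs
  by_cases h169 : r < 169
  · exact entE8p5b_8 r (by omega) s hs
  exact entE8p5b_9 r (by omega) s hs

end Cfsg.Agent.Lib.Helper6.ChevComm
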